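import Cfsg.Agent.Lib.Char.ClassSum
import Cfsg.Agent.Lib.Char.Constituent
import Cfsg.Agent.Lib.KnownA.GLFlags.Orbits
import Cfsg.Prelude.Def_ParabolicCharacters
import Mathlib

set_option autoImplicit false
set_option linter.unusedSectionVars false

/-!
The number of constituents of a permutation character is the dimension of the centre of the
algebra of invariant matrices.
-/

namespace CfsgLib.BNPair.Hecke.Perm

open scoped ComplexConjugate ComplexOrder Matrix

universe u

variable {G : Type u} [Group G] [Fintype G] {X : Type*} [Fintype X] [DecidableEq X] [MulAction G X]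

/-- The permutation matrix of a group element. -/
def pm (g : G) : Matrix X X ℂ := Matrix.of fun x y => if g • y = x then 1 else 0

theorem pm_apply (g : G) (x y : X) : pm g x y = if g • y = x then (1 : ℂ) else 0 := rfl

theorem pm_mul_apply (g : G) (M : Matrix X X ℂ) (x y : X) :
    ((pm g : Matrix X X ℂ) * M) x y = M (g⁻¹ • x) y := by
  rw [Matrix.mul_apply, Finset.sum_eq_single (g⁻¹ • x)]
  · simp [pm_apply]
  · intro z _ hz
    rw [pm_apply, if_neg (fun h => hz (eq_inv_smul_iff.2 h)), zero_mul]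
  · intro h; exact absurd (Finset.mem_univ _) h

theorem mul_pm_apply (g : G) (M : Matrix X X ℂ) (x y : X) :
    (M * (pm g : Matrix X X ℂ)) x y = M x (g • y) := by
  rw [Matrix.mul_apply, Finset.sum_eq_single (g • y)]
  · simp [pm_apply]
  · intro z _ hz
    rw [pm_apply, if_neg (fun h => hz h.symm), mul_zero]
  · intro h; exact absurd (Finset.mem_univ _) h

theorem pm_mul (g h : G) : (pm g * pm h : Matrix X X ℂ) = pm (g * h) := by
  ext x y
  rw [pm_mul_apply, pm_apply, pm_apply]
  exact if_congr (by rw [eq_inv_smul_iff, mul_smul]) rfl rfl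

theorem pm_conjTranspose (g : G) : (pm g : Matrix X X ℂ)ᴴ = pm g⁻¹ := by
  ext x y
  rw [Matrix.conjTranspose_apply, pm_apply, pm_apply, apply_ite star, star_one, star_zero]
  exact if_congr ⟨fun h => by rw [← h, inv_smul_smul], fun h => by rw [← h, smul_inv_smul]⟩ rfl rfl

variable (G X) in
/-- The invariant matrices. -/
def Equi : Submodule ℂ (Matrix X X ℂ) where
  carrier := {M | ∀ (g : G) (x y : X), M (g • x) (g • y) = M x y}
  add_mem' := fun {a b} ha hb g x y => by simp only [Matrix.add_apply, ha g x y, hb g x y]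
  zero_mem' := fun g x y => rfl
  smul_mem' := fun c a ha g x y => by simp only [Matrix.smul_apply, ha g x y]

theorem mem_equi {M : Matrix X X ℂ} :
    M ∈ Equi G X ↔ ∀ (g : G) (x y : X), M (g • x) (g • y) = M x y := Iff.rfl

theorem equi_comm {M : Matrix X X ℂ} (hM : M ∈ Equi G X) (g : G) : pm g * M = M * pm g := by
  ext x y
  rw [pm_mul_apply, mul_pm_apply, ← hM g (g⁻¹ • x) y, smul_inv_smul]

variable (G X) in
/-- The centre of the algebra of invariant matrices. -/
def Zc : Submodule ℂ (Matrix X X ℂ) where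
  carrier := {M | M ∈ Equi G X ∧ ∀ N ∈ Equi G X, M * N = N * M}
  add_mem' := fun {a b} ha hb =>
    ⟨Submodule.add_mem _ ha.1 hb.1, fun N hN => by rw [add_mul, mul_add, ha.2 N hN, hb.2 N hN]⟩
  zero_mem' := ⟨Submodule.zero_mem _, fun N _ => by rw [zero_mul, mul_zero]⟩
  smul_mem' := fun c a ha =>
    ⟨Submodule.smul_mem _ c ha.1, fun N hN => by rw [smul_mul_assoc, mul_smul_comm, ha.2 N hN]⟩

theorem mem_zc {M : Matrix X X ℂ} :
    M ∈ Zc G X ↔ M ∈ Equi G X ∧ ∀ N ∈ Equi G X, M * N = N * M := Iff.rfl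

theorem transpose_mem_equi {M : Matrix X X ℂ} (hM : M ∈ Equi G X) : Mᵀ ∈ Equi G X :=
  fun g x y => hM g y x

theorem transpose_mem_zc {M : Matrix X X ℂ} (hM : M ∈ Zc G X) : Mᵀ ∈ Zc G X := by
  refine ⟨transpose_mem_equi hM.1, fun N hN => ?_⟩
  have h := congrArg Matrix.transpose (hM.2 Nᵀ (transpose_mem_equi hN))
  rw [Matrix.transpose_mul, Matrix.transpose_mul, Matrix.transpose_transpose] at h
  exact h.symm

variable (G X) in
/-- The action of the group algebra. -/
noncomputable def phi : (G → ℂ) →ₗ[ℂ] Matrix X X ℂ where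
  toFun θ := ∑ h, θ h • pm h
  map_add' a b := by simp [add_smul, Finset.sum_add_distrib]
  map_smul' c a := by simp [Finset.smul_sum, smul_smul]

theorem phi_def (θ : G → ℂ) : phi G X θ = ∑ h, θ h • pm h := rfl

theorem phi_apply (θ : G → ℂ) (a b : X) :
    phi G X θ a b = ∑ h : G, if h • b = a then θ h else 0 := by
  rw [phi_def, Matrix.sum_apply]
  refine Finset.sum_congr rfl fun h _ => ?_
  rw [Matrix.smul_apply, pm_apply, smul_eq_mul, mul_ite, mul_one, mul_zero]

theorem phi_mem_zc {θ : G → ℂ} (hθ : Cfsg.IsClassFunction G θ) : phi G X θ ∈ Zc G X := by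
  refine ⟨fun g x y => ?_, fun N hN => ?_⟩
  · rw [phi_apply, phi_apply]
    refine (Fintype.sum_equiv (MulAut.conj g).toEquiv _ _ fun h => ?_).symm
    simp only [MulEquiv.toEquiv_eq_coe, MulEquiv.coe_toEquiv, MulAut.conj_apply, hθ h g]
    refine if_congr ?_ rfl rfl
    rw [mul_smul, mul_smul, inv_smul_smul, smul_left_cancel_iff]
  · simp only [phi_def, Finset.sum_mul, Finset.mul_sum, smul_mul_assoc, mul_smul_comm,
      equi_comm hN]

theorem phi_mul (θ θ' : G → ℂ) :
    phi G X θ * phi G X θ' = phi G X (fun g => ∑ x, θ x * θ' (x⁻¹ * g)) := by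
  simp only [phi_def, Finset.sum_smul]
  rw [Finset.sum_mul]
  conv_rhs => rw [Finset.sum_comm]
  refine Finset.sum_congr rfl fun x _ => ?_
  rw [Finset.mul_sum]
  refine Fintype.sum_equiv (Equiv.mulLeft x) _ _ fun g => ?_
  rw [smul_mul_smul_comm, pm_mul, Equiv.coe_mulLeft, inv_mul_cancel_left]

variable (G X) in
/-- The permutation character. -/
def pc (h : G) : ℂ := ∑ x : X, if h • x = x then 1 else 0

theorem pc_eq (h : G) : pc G X h = (Nat.card (MulAction.fixedBy X h) : ℂ) := by
  rw [pc, Finset.sum_boole, Nat.card_eq_fintype_card]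
  congr 1
  exact (Fintype.card_subtype fun x : X => h • x = x).symm

theorem conj_pc (h : G) : conj (pc G X h) = pc G X h := by
  rw [pc_eq, map_natCast]

theorem pc_class : Cfsg.IsClassFunction G (pc G X) := by
  intro g h
  refine Fintype.sum_equiv (MulAction.toPerm h⁻¹) _ _ fun x => ?_
  refine if_congr ?_ rfl rfl
  rw [MulAction.toPerm_apply, mul_smul, mul_smul, ← eq_inv_smul_iff]

theorem trace_phi (θ : G → ℂ) : (phi G X θ).trace = ∑ h, θ h * pc G X h := by
  simp only [Matrix.trace, Matrix.diag_apply, phi_apply, pc, Finset.mul_sum, mul_ite, mul_one,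
    mul_zero]
  exact Finset.sum_comm

/-- A class function built from a matrix. -/
def cfun (z : Matrix X X ℂ) (h : G) : ℂ := ∑ x, z x (h • x)

theorem cfun_class {z : Matrix X X ℂ} (hz : z ∈ Equi G X) : Cfsg.IsClassFunction G (cfun z) := by
  intro g h
  refine Fintype.sum_equiv (MulAction.toPerm h⁻¹) _ _ fun x => ?_
  rw [MulAction.toPerm_apply, mul_smul, mul_smul]
  conv_lhs => rw [← smul_inv_smul h x, inv_smul_smul]
  rw [hz]

/-- The orbit matrix of a pair. -/
def orbMat (p q : X) : Matrix X X ℂ :=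
  Matrix.of fun u v => ∑ h : G, if h • p = u ∧ h • q = v then 1 else 0

theorem orbMat_mem (p q : X) : orbMat (G := G) p q ∈ Equi G X := by
  intro g u v
  refine (Fintype.sum_equiv (Equiv.mulLeft g) _ _ fun h => ?_).symm
  simp only [Equiv.coe_mulLeft, mul_smul, smul_left_cancel_iff]

theorem mul_phi_pc {w : Matrix X X ℂ} (hw : w ∈ Zc G X) :
    w * phi G X (pc G X) = phi G X (cfun (wᵀ : Matrix X X ℂ)) := by
  ext a b
  have hE : ∀ u, phi G X (pc G X) u b = ∑ x, orbMat (G := G) b x u x := by
    intro u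
    simp only [phi_apply, pc, orbMat, Matrix.of_apply]
    rw [Finset.sum_comm (γ := X)]
    refine Finset.sum_congr rfl fun h _ => ?_
    by_cases hb : h • b = u <;> simp [hb]
  have hF : phi G X (cfun (wᵀ : Matrix X X ℂ)) a b = ∑ x, (orbMat (G := G) b x * w) a x := by
    simp only [phi_apply, cfun, Matrix.mul_apply, orbMat, Matrix.of_apply, Matrix.transpose_apply,
      Finset.sum_mul]
    simp only [Finset.sum_comm (s := (Finset.univ : Finset X)) (t := (Finset.univ : Finset G))]
    refine Finset.sum_congr rfl fun h _ => ?_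
    by_cases hb : h • b = a <;> simp [hb, ite_mul]
  rw [hF, Matrix.mul_apply]
  simp only [hE, Finset.mul_sum]
  rw [Finset.sum_comm]
  refine Finset.sum_congr rfl fun x _ => ?_
  rw [← hw.2 _ (orbMat_mem b x), Matrix.mul_apply]

theorem sum_mul_stab (v : X → ℂ) (x : X) :
    (Nat.card (MulAction.stabilizer G x) : ℂ) *
        (∑ h : MulAction.stabilizer G x, ∑ a, conj (v a) * v ((h : G)⁻¹ • a)) =
      ∑ a, (Complex.normSq (∑ h : MulAction.stabilizer G x, v ((h : G)⁻¹ • a)) : ℂ) := by
  classical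
  simp only [Complex.normSq_eq_conj_mul_self, map_sum, Finset.sum_mul, Finset.mul_sum]
  symm
  rw [Finset.sum_congr rfl fun a _ => Finset.sum_comm]
  rw [Finset.sum_comm]
  have : ∀ k : MulAction.stabilizer G x,
      (∑ a, ∑ h : MulAction.stabilizer G x, conj (v ((k : G)⁻¹ • a)) * v ((h : G)⁻¹ • a)) =
        ∑ h : MulAction.stabilizer G x, ∑ a, conj (v a) * v ((h : G)⁻¹ • a) := by
    intro k
    rw [Finset.sum_comm]
    refine Fintype.sum_equiv (Equiv.mulLeft k⁻¹) _ _ fun h => ?_
    refine Fintype.sum_equiv (MulAction.toPerm (k : G)⁻¹) _ _ fun a => ?_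
    simp [MulAction.toPerm_apply, smul_smul, mul_assoc]
  rw [Finset.sum_congr rfl fun k _ => this k, Finset.sum_const, nsmul_eq_mul, Finset.card_univ,
    Nat.card_eq_fintype_card]
  simp only [Finset.mul_sum]

theorem phi_pc_injective :
    Function.Injective fun M : Matrix X X ℂ => M * phi G X (pc G X) := by
  classical
  have hdet : IsUnit (phi G X (pc G X)) := by
    rw [← Matrix.mulVec_injective_iff_isUnit]
    suffices h : ∀ v, phi G X (pc G X) *ᵥ v = 0 → v = 0 by
      intro v w hvw
      exact sub_eq_zero.1 (h _ (by rw [Matrix.mulVec_sub, hvw, sub_self]))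
    intro v hv
    set R : X → ℝ := fun x =>
      ∑ a, Complex.normSq (∑ h : MulAction.stabilizer G x, v ((h : G)⁻¹ • a)) with hR
    have hQ : ∑ a, conj (v a) * (phi G X (pc G X) *ᵥ v) a =
        ((∑ x, ((Nat.card (MulAction.stabilizer G x) : ℝ))⁻¹ * R x : ℝ) : ℂ) := by
      push_cast [hR]
      have hx : ∀ x : X, ((Nat.card (MulAction.stabilizer G x) : ℂ))⁻¹ *
          ∑ a, (Complex.normSq (∑ h : MulAction.stabilizer G x, v ((h : G)⁻¹ • a)) : ℂ) =
            ∑ h : G, if h • x = x then ∑ a, conj (v a) * v (h⁻¹ • a) else 0 := by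
        intro x
        rw [← sum_mul_stab, inv_mul_cancel_left₀ (Nat.cast_ne_zero.2 Nat.card_pos.ne'),
          ← Finset.sum_filter]
        exact (Finset.sum_subtype (p := fun h : G => h ∈ MulAction.stabilizer G x)
          (Finset.univ.filter fun h : G => h • x = x) (fun h => by simp)
          (fun h : G => ∑ a : X, conj (v a) * v (h⁻¹ • a))).symm
      rw [Finset.sum_congr rfl fun x _ => hx x, Finset.sum_comm]
      have hmv : ∀ a, (phi G X (pc G X) *ᵥ v) a = ∑ h : G, pc G X h * v (h⁻¹ • a) := by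
        intro a
        rw [phi_def, Matrix.sum_mulVec, Finset.sum_apply]
        refine Finset.sum_congr rfl fun h _ => ?_
        rw [Matrix.smul_mulVec, Pi.smul_apply, smul_eq_mul]
        congr 1
        rw [Matrix.mulVec, dotProduct, Finset.sum_eq_single (h⁻¹ • a)]
        · simp [pm_apply]
        · intro b _ hb
          rw [pm_apply, if_neg (fun e => hb (eq_inv_smul_iff.2 e)), zero_mul]
        · intro hne; exact absurd (Finset.mem_univ _) hne
      simp only [hmv, Finset.mul_sum]
      rw [Finset.sum_comm]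
      refine Finset.sum_congr rfl fun h _ => ?_
      simp only [pc, Finset.sum_mul, Finset.mul_sum, ite_mul, one_mul, zero_mul, mul_ite, mul_zero]
      rw [Finset.sum_comm]
      refine Finset.sum_congr rfl fun x _ => ?_
      split <;> simp
    rw [hv] at hQ
    simp only [Pi.zero_apply, mul_zero, Finset.sum_const_zero] at hQ
    have hnn : ∀ x, 0 ≤ R x := fun x => Finset.sum_nonneg fun a _ => Complex.normSq_nonneg _
    have h0 := (Finset.sum_eq_zero_iff_of_nonneg fun x _ =>
      mul_nonneg (inv_nonneg.2 (Nat.cast_nonneg _)) (hnn x)).1 (Complex.ofReal_eq_zero.1 hQ.symm)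
    funext x
    have h1 : R x = 0 := (mul_eq_zero.1 (h0 x (Finset.mem_univ _))).resolve_left
      (inv_ne_zero (Nat.cast_ne_zero.2 Nat.card_pos.ne'))
    have h2 := Complex.normSq_eq_zero.1
      ((Finset.sum_eq_zero_iff_of_nonneg fun a _ => Complex.normSq_nonneg _).1 h1 x
        (Finset.mem_univ _))
    rw [Finset.sum_congr rfl (g := fun _ => v x) (fun h _ => by rw [inv_smul_eq_iff.2 h.2.symm]),
      Finset.sum_const, nsmul_eq_mul, mul_eq_zero] at h2
    exact h2.resolve_left (Nat.cast_ne_zero.2 (Finset.card_pos.2 ⟨1, Finset.mem_univ _⟩).ne')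
  exact fun M N h => hdet.mul_right_cancel h

variable (G X) in
/-- The image of the class functions. -/
noncomputable def Img : Submodule ℂ (Matrix X X ℂ) :=
  Submodule.span ℂ (Set.range fun χ : Cfsg.IrrCharacter G => phi G X (χ : G → ℂ))

theorem phi_mem_img {θ : G → ℂ} (hθ : Cfsg.IsClassFunction G θ) : phi G X θ ∈ Img G X := by
  rw [CfsgLib.Char.IsClassFunction.eq_sum_irr hθ, map_sum]
  refine Submodule.sum_mem _ fun χ _ => ?_
  rw [map_smul]
  exact Submodule.smul_mem _ _ (Submodule.subset_span ⟨χ, rfl⟩)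

theorem finrank_zc_eq_img : Module.finrank ℂ (Zc G X) = Module.finrank ℂ (Img G X) := by
  apply le_antisymm
  · let f : Zc G X →ₗ[ℂ] Img G X :=
      LinearMap.codRestrict (Img G X)
        ((LinearMap.mulRight ℂ (phi G X (pc G X))).comp (Zc G X).subtype)
        (fun w => by
          show (w : Matrix X X ℂ) * phi G X (pc G X) ∈ Img G X
          rw [mul_phi_pc w.2]
          exact phi_mem_img (cfun_class (transpose_mem_equi w.2.1)))
    refine LinearMap.finrank_le_finrank_of_injective (f := f) fun a b h => ?_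
    exact Subtype.ext (phi_pc_injective (congrArg Subtype.val h))
  · refine Submodule.finrank_mono (Submodule.span_le.2 ?_)
    rintro _ ⟨χ, rfl⟩
    exact phi_mem_zc (CfsgLib.Char.IsIrrCharacter.isClassFunction χ.2)

theorem phi_irr_mul (χ ψ : Cfsg.IrrCharacter G) [Decidable (χ = ψ)] :
    phi G X (χ : G → ℂ) * phi G X (ψ : G → ℂ) =
      if χ = ψ then ((Nat.card G : ℂ) / (χ : G → ℂ) 1) • phi G X (χ : G → ℂ) else 0 := by
  classical
  rw [phi_mul]
  split_ifs with h
  · subst h
    rw [← map_smul]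
    congr 1
    funext g
    rw [CfsgLib.Char.IsIrrCharacter.sum_mul_apply χ.2 χ.2, if_pos rfl, Pi.smul_apply, smul_eq_mul]
    ring
  · rw [← map_zero (phi G X)]
    congr 1
    funext g
    rw [CfsgLib.Char.IsIrrCharacter.sum_mul_apply χ.2 ψ.2, if_neg fun e => h (Subtype.ext e)]
    rfl

theorem phi_irr_conjTranspose (χ : Cfsg.IrrCharacter G) :
    (phi G X (χ : G → ℂ))ᴴ = phi G X (χ : G → ℂ) := by
  rw [phi_def, Matrix.conjTranspose_sum]
  refine Fintype.sum_equiv (Equiv.inv G) _ _ fun h => ?_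
  rw [Matrix.conjTranspose_smul, pm_conjTranspose, Equiv.inv_apply,
    CfsgLib.Char.IsIrrCharacter.apply_inv χ.2]
  rfl

theorem phi_irr_eq_zero_iff (χ : Cfsg.IrrCharacter G) :
    phi G X (χ : G → ℂ) = 0 ↔ Cfsg.classInner (pc G X) (χ : G → ℂ) = 0 := by
  classical
  have htr : (phi G X (χ : G → ℂ)).trace =
      (Nat.card G : ℂ) * conj (Cfsg.classInner (pc G X) (χ : G → ℂ)) := by
    rw [trace_phi, CfsgLib.Char.classInner_conj_symm, Cfsg.classInner, ← mul_assoc,
      mul_inv_cancel₀ CfsgLib.Char.card_ne_zero, one_mul]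
    exact Finset.sum_congr rfl fun h _ => by rw [conj_pc]
  constructor
  · intro h
    rw [h, Matrix.trace_zero, eq_comm, mul_eq_zero] at htr
    rcases htr with h1 | h1
    · exact absurd h1 CfsgLib.Char.card_ne_zero
    · simpa using h1
  · intro h
    rw [h, map_zero, mul_zero] at htr
    have h2 : (phi G X (χ : G → ℂ) * (phi G X (χ : G → ℂ))ᴴ).trace = 0 := by
      rw [phi_irr_conjTranspose, phi_irr_mul, if_pos rfl, Matrix.trace_smul, htr, smul_zero]
    exact Matrix.trace_mul_conjTranspose_self_eq_zero_iff.1 h2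

theorem finrank_img :
    Module.finrank ℂ (Img G X) =
      Nat.card {χ : Cfsg.IrrCharacter G // Cfsg.classInner (pc G X) (χ : G → ℂ) ≠ 0} := by
  classical
  set f : {χ : Cfsg.IrrCharacter G // Cfsg.classInner (pc G X) (χ : G → ℂ) ≠ 0} → Matrix X X ℂ :=
    fun χ => phi G X (χ.1 : G → ℂ) with hf
  have hspan : Img G X = Submodule.span ℂ (Set.range f) := by
    refine le_antisymm (Submodule.span_le.2 ?_) (Submodule.span_le.2 ?_)
    · rintro _ ⟨χ, rfl⟩
      by_cases h : Cfsg.classInner (pc G X) (χ : G → ℂ) = 0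
      · show phi G X (χ : G → ℂ) ∈ Submodule.span ℂ (Set.range f)
        rw [(phi_irr_eq_zero_iff χ).2 h]
        exact Submodule.zero_mem _
      · exact Submodule.subset_span ⟨⟨χ, h⟩, rfl⟩
    · rintro _ ⟨χ, rfl⟩
      exact Submodule.subset_span ⟨χ.1, rfl⟩
  have hli : LinearIndependent ℂ f := by
    rw [Fintype.linearIndependent_iff]
    intro a ha χ
    have h1 := congrArg (· * f χ) ha
    simp only [Finset.sum_mul, smul_mul_assoc, zero_mul, hf, phi_irr_mul] at h1
    rw [Finset.sum_eq_single χ (fun ψ _ hψ => by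
      rw [if_neg fun e => hψ (Subtype.ext e), smul_zero]) (by simp), if_pos rfl, smul_smul] at h1
    rcases smul_eq_zero.1 h1 with h2 | h2
    · exact (mul_eq_zero.1 h2).resolve_right
        (div_ne_zero CfsgLib.Char.card_ne_zero (CfsgLib.Char.IsIrrCharacter.apply_one_ne_zero χ.1.2))
    · exact absurd ((phi_irr_eq_zero_iff χ.1).1 h2) χ.2
  rw [hspan, finrank_span_eq_card hli, Nat.card_eq_fintype_card]

variable (B : Subgroup G)

/-- The number of constituents of the permutation character on the cosets of a subgroup. -/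
theorem card_constituents [Fintype (G ⧸ B)] [DecidableEq (G ⧸ B)] :
    Nat.card {χ : Cfsg.IrrCharacter G // ∃ φ : G → ℂ, Cfsg.IsCharacter G φ ∧
      Cfsg.fixedPointCharacter B = (χ : G → ℂ) + φ} =
      Module.finrank ℂ (Zc G (G ⧸ B)) := by
  classical
  rw [finrank_zc_eq_img, finrank_img]
  refine Nat.card_congr (Equiv.subtypeEquivRight fun χ => ?_)
  have hpc : pc G (G ⧸ B) = Cfsg.fixedPointCharacter B := funext fun h => pc_eq h
  rw [hpc]
  obtain ⟨m, hm, hexp⟩ := CfsgLib.Char.IsCharacter.exists_multiplicity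
    (CfsgLib.KnownA.GLFlags.fixedPointCharacter_isCharacter B)
  constructor
  · rintro ⟨φ, hφ, he⟩
    obtain ⟨n, hn⟩ := CfsgLib.Char.IsCharacter.classInner_nat hφ (CfsgLib.Char.isCharacter_irr χ)
    rw [he, CfsgLib.Char.classInner_add_left, CfsgLib.Char.classInner_irr_self χ.2, hn]
    exact_mod_cast (show 1 + n ≠ 0 by omega)
  · intro h
    rw [hm, Nat.cast_ne_zero] at h
    refine ⟨∑ ψ : Cfsg.IrrCharacter G, (m ψ - if ψ = χ then 1 else 0) • (ψ : G → ℂ),
      CfsgLib.Char.isCharacter_sum _ _ fun ψ _ =>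
        CfsgLib.Char.IsCharacter.nsmul (CfsgLib.Char.isCharacter_irr ψ) _, ?_⟩
    have e : (χ : G → ℂ) = ∑ ψ : Cfsg.IrrCharacter G, (if ψ = χ then 1 else 0) • (ψ : G → ℂ) := by
      simp [ite_smul]
    conv_rhs => arg 1; rw [e]
    rw [← Finset.sum_add_distrib]
    funext g
    rw [hexp, Finset.sum_apply]
    refine Finset.sum_congr rfl fun ψ _ => ?_
    rw [← add_smul, Pi.smul_apply, nsmul_eq_mul, Nat.add_sub_cancel']
    split_ifs with he
    · rw [he]; omega
    · exact Nat.zero_le _

end CfsgLib.BNPair.Hecke.Perm
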