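import Cfsg.Agent.Lib.BNPair.Hecke.Higman
import Mathlib

set_option autoImplicit false
set_option linter.unusedSectionVars false

/-! The dimension of the centre does not depend on the positive parameter. -/

namespace CfsgLib.BNPair.Hecke

open CfsgLib.BNPair.Exchange Filter Topology

theorem rank_lower_semicont {X V U : Type*} [TopologicalSpace X] [AddCommGroup V] [Module ℂ V]
    [NormedAddCommGroup U] [NormedSpace ℂ U] [FiniteDimensional ℂ U] (A : X → V →ₗ[ℂ] U) (x0 : X)
    (hA : ∀ v, ContinuousAt (fun x => A x v) x0) :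
    ∀ᶠ x in 𝓝 x0, Module.finrank ℂ (LinearMap.range (A x0)) ≤ Module.finrank ℂ (LinearMap.range (A x)) := by
  let b := Module.finBasis ℂ (LinearMap.range (A x0))
  have hpre : ∀ j, ∃ v, A x0 v = (b j : U) := fun j => LinearMap.mem_range.1 (b j).2
  choose v hv using hpre
  have hli : LinearIndependent ℂ (fun j => A x0 (v j)) := by
    simp only [hv]
    exact b.linearIndependent.map' (LinearMap.range (A x0)).subtype (Submodule.ker_subtype _)
  have hopen : IsOpen {f : Fin (Module.finrank ℂ (LinearMap.range (A x0))) → U | LinearIndependent ℂ f} :=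
    isOpen_setOf_linearIndependent
  have hcont : ContinuousAt (fun x j => A x (v j)) x0 := continuousAt_pi.2 fun j => hA (v j)
  filter_upwards [hcont.preimage_mem_nhds (hopen.mem_nhds hli)] with x hx
  have h1 : LinearIndependent ℂ
      (fun j => (⟨A x (v j), LinearMap.mem_range_self _ _⟩ : LinearMap.range (A x))) :=
    LinearIndependent.of_comp (LinearMap.range (A x)).subtype hx
  simpa using h1.fintype_card_le_finrank

variable {ι W : Type*} [Group W] [Fintype W] [Fintype ι] {σ : ι → W} (hσ : IsInvGen σ)

/-- Positive reals. -/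
abbrev Pos : Type := {t : ℝ // 0 < t}

theorem continuous_lop (i : ι) {a : Pos → W → ℂ} (ha : Continuous a) :
    Continuous fun t : Pos => lop hσ ((t : ℝ) : ℂ) i (a t) := by
  refine continuous_pi fun v => ?_
  simp only [lop_apply]
  have hc : Continuous fun t : Pos => ((t : ℝ) : ℂ) := Complex.continuous_ofReal.comp continuous_subtype_val
  have hev : ∀ u, Continuous fun t : Pos => a t u := fun u => (continuous_apply u).comp ha
  split_ifs
  · exact hc.mul (hev _)
  · exact (hev _).add ((hc.sub continuous_const).mul (hev _))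

theorem continuous_rop (i : ι) {a : Pos → W → ℂ} (ha : Continuous a) :
    Continuous fun t : Pos => rop hσ ((t : ℝ) : ℂ) i (a t) := by
  refine continuous_pi fun v => ?_
  simp only [rop_apply]
  have hc : Continuous fun t : Pos => ((t : ℝ) : ℂ) := Complex.continuous_ofReal.comp continuous_subtype_val
  have hev : ∀ u, Continuous fun t : Pos => a t u := fun u => (continuous_apply u).comp ha
  split_ifs
  · exact hc.mul (hev _)
  · exact (hev _).add ((hc.sub continuous_const).mul (hev _))

theorem continuous_tW (w : W) {a : Pos → W → ℂ} (ha : Continuous a) :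
    Continuous fun t : Pos => tW hσ ((t : ℝ) : ℂ) w (a t) := by
  unfold tW wordOp
  generalize Classical.choose (exists_reduced hσ w) = l
  induction l with
  | nil => simpa using ha
  | cons i l ih =>
    simp only [List.map_cons, List.prod_cons, Module.End.mul_apply]
    exact continuous_lop hσ i ih

theorem continuous_kmap (a : W → ℂ) : Continuous fun t : Pos => kmap hσ ((t : ℝ) : ℂ) a := by
  refine continuous_pi fun i => ?_
  exact (continuous_lop hσ i continuous_const).sub (continuous_rop hσ i continuous_const)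

theorem continuous_gmap (a : W → ℂ) : Continuous fun t : Pos => gmap hσ ((t : ℝ) : ℂ) a := by
  have hc : Continuous fun t : Pos => ((t : ℝ) : ℂ) := Complex.continuous_ofReal.comp continuous_subtype_val
  show Continuous fun t : Pos => casimir hσ ((t : ℝ) : ℂ) (lam hσ ((t : ℝ) : ℂ) a) (dlt 1)
  simp only [casimir, LinearMap.sum_apply, LinearMap.smul_apply, Module.End.mul_apply]
  refine continuous_finsetSum _ fun w _ => ?_
  refine ((hc.pow _).inv₀ fun t => pow_ne_zero _ (Complex.ofReal_ne_zero.2 t.2.ne')).smul (continuous_tW hσ w ?_)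
  show Continuous fun t : Pos => lam hσ ((t : ℝ) : ℂ) a (tW hσ ((t : ℝ) : ℂ) w⁻¹ (dlt 1))
  simp only [lam, LinearMap.coe_mk, AddHom.coe_mk, LinearMap.sum_apply, LinearMap.smul_apply]
  refine continuous_finsetSum _ fun v _ => ?_
  exact (continuous_tW hσ v (continuous_tW hσ w⁻¹ continuous_const)).const_smul (a v)

variable (hx : HasExchange hσ) (hne : ∀ i, σ i ≠ 1)
include hx hne

/-- The dimension of the centre is constant for positive parameters. -/
theorem finrank_ker_eq (s t : Pos) :
    Module.finrank ℂ (LinearMap.ker (kmap hσ ((s : ℝ) : ℂ))) =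
      Module.finrank ℂ (LinearMap.ker (kmap hσ ((t : ℝ) : ℂ))) := by
  haveI : PreconnectedSpace Pos :=
    Subtype.preconnectedSpace (s := Set.Ioi (0 : ℝ)) isPreconnected_Ioi
  suffices h : IsLocallyConstant fun t : Pos => Module.finrank ℂ (LinearMap.ker (kmap hσ ((t : ℝ) : ℂ))) from
    h.apply_eq_of_preconnectedSpace s t
  rw [IsLocallyConstant.iff_eventually_eq]
  intro t0
  have h1 := rank_lower_semicont (fun t : Pos => kmap hσ ((t : ℝ) : ℂ)) t0
    fun a => (continuous_kmap hσ a).continuousAt
  have h2 := rank_lower_semicont (fun t : Pos => gmap hσ ((t : ℝ) : ℂ)) t0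
    fun a => (continuous_gmap hσ a).continuousAt
  filter_upwards [h1, h2] with t h1 h2
  rw [range_gmap hσ hx hne t0.2, range_gmap hσ hx hne t.2] at h2
  have e1 := LinearMap.finrank_range_add_finrank_ker (kmap hσ ((t : ℝ) : ℂ))
  have e2 := LinearMap.finrank_range_add_finrank_ker (kmap hσ ((t0 : ℝ) : ℂ))
  omega

theorem mem_ker_one {a : W → ℂ} :
    a ∈ LinearMap.ker (kmap hσ ((1 : ℝ) : ℂ)) ↔ ∀ i v, a (σ i * v) = a (v * σ i) := by
  rw [LinearMap.mem_ker, funext_iff]
  refine forall_congr' fun i => ?_
  rw [funext_iff]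
  refine forall_congr' fun v => ?_
  show lop hσ ((1 : ℝ) : ℂ) i a v - rop hσ ((1 : ℝ) : ℂ) i a v = 0 ↔ _
  simp only [lop_apply, rop_apply, Complex.ofReal_one, one_mul, sub_self, zero_mul, add_zero, ite_self, sub_eq_zero]

theorem finrank_ker_one :
    Module.finrank ℂ (LinearMap.ker (kmap hσ ((1 : ℝ) : ℂ))) = Nat.card (ConjClasses W) := by
  classical
  have hcls : ∀ a : W → ℂ, a ∈ LinearMap.ker (kmap hσ ((1 : ℝ) : ℂ)) → ∀ x y : W, IsConj x y → a x = a y := by
    intro a ha x y hxy
    rw [mem_ker_one hσ hx hne] at ha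
    obtain ⟨c, rfl⟩ := isConj_iff.1 hxy
    obtain ⟨l, rfl⟩ := hσ.gen c
    induction l with
    | nil => simp
    | cons i l ih =>
      rw [ih (isConj_iff.2 ⟨_, rfl⟩), List.map_cons, List.prod_cons, _root_.mul_inv_rev, inv_eq hσ]
      set y := (l.map σ).prod * x * ((l.map σ).prod)⁻¹
      have h := ha i (y * σ i)
      rw [mul_assoc y, hσ.mul_self, mul_one] at h
      rw [← h]
      congr 1
      simp [y, mul_assoc]
  let e : LinearMap.ker (kmap hσ ((1 : ℝ) : ℂ)) ≃ₗ[ℂ] (ConjClasses W → ℂ) :=
    { toFun := fun a C => Quotient.liftOn C (a : W → ℂ) fun x y h => hcls _ a.2 x y h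
      map_add' := fun a b => by funext C; induction C using Quotient.inductionOn; rfl
      map_smul' := fun c a => by funext C; induction C using Quotient.inductionOn; rfl
      invFun := fun f => ⟨fun v => f (ConjClasses.mk v), (mem_ker_one hσ hx hne).2 fun i v => by
        refine congrArg f (ConjClasses.mk_eq_mk_iff_isConj.2 (isConj_iff.2 ⟨σ i, ?_⟩))
        rw [inv_eq hσ, mul_mul hσ]⟩
      left_inv := fun a => rfl
      right_inv := fun f => by funext C; induction C using Quotient.inductionOn; rfl }
  rw [e.finrank_eq, Module.finrank_fintype_fun_eq_card, Nat.card_eq_fintype_card]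

end CfsgLib.BNPair.Hecke
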