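import Cfsg.Agent.Lib.BNPair.Count
import Cfsg.Agent.Lib.BNPair.Hecke.Deform
import Cfsg.Agent.Lib.BNPair.Hecke.Constituents
import Mathlib

set_option autoImplicit false
set_option linter.unusedSectionVars false

/-!
The invariant kernels of a finite (B,N)-pair with a single parameter form the Hecke algebra of
the Weyl group at that parameter.
-/

namespace CfsgLib.BNPair.Hecke.Grp

open CfsgLib.BNPair.Exchange CfsgLib.BNPair.Basic CfsgLib.BNPair.Count

universe u

variable {G : Type u} [Group G] [Finite G] (P : Cfsg.BNPair G)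

/-- The kernel of a function on the Weyl group. -/
noncomputable def kerC : (W P → ℂ) →ₗ[ℂ] Matrix (G ⧸ P.B) (G ⧸ P.B) ℂ where
  toFun a := Matrix.of fun x y => a (wOf P (x.out⁻¹ * y.out))
  map_add' _ _ := rfl
  map_smul' _ _ := rfl

theorem kerC_apply (a : W P → ℂ) (x y : G ⧸ P.B) :
    kerC P a x y = a (wOf P (x.out⁻¹ * y.out)) := rfl

theorem kerC_mk (F : W P → ℂ) (a b : G) : kerC P F a b = F (wOf P (a⁻¹ * b)) := by
  obtain ⟨c, hc, e⟩ := out_eq_mul P a
  obtain ⟨c', hc', e'⟩ := out_eq_mul P b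
  rw [kerC_apply, e, e', show (a * c)⁻¹ * (b * c') = c⁻¹ * (a⁻¹ * b) * c' by group,
    wOf_mul_B P (P.B.inv_mem hc) hc']

theorem out_mem_cell (w : W P) : (w.out : G) ∈ cell P w := by
  have := mem_cell_proj P w.out
  rwa [QuotientGroup.mk'_apply, QuotientGroup.out_eq'] at this

theorem kerC_one_out (F : W P → ℂ) (w : W P) :
    kerC P F ((1 : G) : G ⧸ P.B) ((w.out : G) : G ⧸ P.B) = F w := by
  rw [kerC_mk, inv_one, one_mul, wOf_eq P (out_mem_cell P w)]

theorem kerC_injective : Function.Injective (kerC P) := fun F F' h => by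
  funext w
  rw [← kerC_one_out P F, h, kerC_one_out]

open Classical in
theorem kerC_dlt_one : kerC P (dlt (1 : W P)) = 1 := by
  ext x y
  obtain ⟨a, rfl⟩ := QuotientGroup.mk_surjective x
  obtain ⟨b, rfl⟩ := QuotientGroup.mk_surjective y
  rw [kerC_mk, dlt_apply, Matrix.one_apply]
  refine if_congr ?_ rfl rfl
  rw [QuotientGroup.eq, ← mem_cell_one P]
  exact ⟨fun h => h ▸ mem_wOf P _, wOf_eq P⟩

variable {q : ℕ} (hq : ∀ s : P.S, weight P (σ P s) = q)
include hq

open Classical in
theorem gen_mul_kerC (i : P.S) (F : W P → ℂ) :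
    kerC P (dlt (σ P i)) * kerC P F = kerC P (lop (isInvGen P) (q : ℂ) i F) := by
  ext x y
  obtain ⟨a, rfl⟩ := QuotientGroup.mk_surjective x
  obtain ⟨b, rfl⟩ := QuotientGroup.mk_surjective y
  rw [kerC_mk, Matrix.mul_apply]
  set g := a⁻¹ * b with hg
  set w := wOf P g with hw
  set S := Finset.univ.filter fun z : G ⧸ P.B => wOf P (a⁻¹ * z.out) = σ P i with hS
  have hcard : S.card = q := by rw [hS, card_translate]; exact hq i
  have hsum : ∑ z : G ⧸ P.B, kerC P (dlt (σ P i)) a z * kerC P F z b =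
      ∑ z ∈ S, F (wOf P ((a⁻¹ * z.out)⁻¹ * g)) := by
    rw [hS, Finset.sum_filter]
    refine Finset.sum_congr rfl fun z _ => ?_
    have e1 : kerC P (dlt (σ P i)) a z = dlt (σ P i) (wOf P (a⁻¹ * z.out)) := by
      conv_lhs => rw [← QuotientGroup.out_eq' z, kerC_mk]
    have e2 : kerC P F z b = F (wOf P ((a⁻¹ * z.out)⁻¹ * g)) := by
      rw [show (a⁻¹ * z.out)⁻¹ * g = z.out⁻¹ * b by rw [hg]; group]
      conv_lhs => rw [← QuotientGroup.out_eq' z, kerC_mk]
    rw [e1, e2, dlt_apply]
    split <;> simp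
  rw [hsum, lop_apply]
  have hinv : ∀ z ∈ S, (a⁻¹ * z.out)⁻¹ ∈ cell P (σ P i) := by
    intro z hz
    rw [hS, Finset.mem_filter] at hz
    have := inv_mem_cell P (hz.2 ▸ mem_wOf P (a⁻¹ * z.out))
    rwa [inv_eq (isInvGen P) i] at this
  split_ifs with hlt
  · rw [Finset.sum_congr rfl (g := fun _ => F (σ P i * w)) (fun z hz => by
        rw [wOf_eq P (gen_cell_mul_up P hlt.le (hinv z hz) (mem_wOf P g))]),
      Finset.sum_const, nsmul_eq_mul, hcard]
  · have hdown : ℓ P (σ P i * w) < ℓ P w :=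
      lt_of_le_of_ne (not_lt.1 hlt) (len_gen_mul_ne P i w)
    set w' := σ P i * w with hw'
    have hlt' : ℓ P w' ≤ ℓ P (σ P i * w') := by
      rw [hw', mul_mul (isInvGen P)]; exact hdown.le
    have h0 := out_mem_cell P w'
    have hi : (i : G) ∈ cell P (σ P i) := mem_cell_proj P (sN P i)
    have h1 := gen_cell_mul_up P hlt' hi h0
    rw [hw', mul_mul (isInvGen P)] at h1
    have hgw : g ∈ cell P w := mem_wOf P g
    rw [← cell_eq_of_mem P h1 h1] at hgw
    have hdc : ∃ c ∈ P.B, ∃ c' ∈ P.B, g = c * ((i : G) * w'.out) * c' := by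
      have h2 : g ∈ DoubleCoset.doubleCoset ((i : G) * w'.out) (P.B : Set G) P.B := by
        have := DoubleCoset.doubleCoset_eq_of_mem h1
        rw [this]; exact hgw
      exact DoubleCoset.mem_doubleCoset.mp h2
    obtain ⟨c, hc, c', hc', hge⟩ := hdc
    set a2 := c * (i : G) with ha2
    set g' := (w'.out : G) * c' with hg'
    have hga : g = a2 * g' := by rw [hge, ha2, hg']; group
    have ha2c : a2 ∈ cell P (σ P i) := mul_cell P hi hc
    have hg'c : g' ∈ cell P w' := cell_mul P h0 hc'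
    set z0 : G ⧸ P.B := ((a * a2 : G) : G ⧸ P.B) with hz0
    have hz0S : z0 ∈ S := by
      rw [hS, Finset.mem_filter]
      refine ⟨Finset.mem_univ _, ?_⟩
      obtain ⟨e, he, hout⟩ := out_eq_mul P (a * a2)
      rw [hz0, hout, show a⁻¹ * (a * a2 * e) = a2 * e by group]
      exact wOf_eq P (cell_mul P ha2c he)
    have hval : ∀ z ∈ S, wOf P ((a⁻¹ * z.out)⁻¹ * g) = if z = z0 then w' else w := by
      intro z hz
      have hu := gen_cell_mul P (hinv z hz) ha2c
      rw [σ_mul_self] at hu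
      by_cases hzz : z = z0
      · rw [if_pos hzz, hga, ← mul_assoc]
        refine wOf_eq P (mul_cell P hg'c ?_)
        obtain ⟨e, he, hout⟩ := out_eq_mul P (a * a2)
        rw [hzz, hz0, hout, show (a⁻¹ * (a * a2 * e))⁻¹ * a2 = e⁻¹ by group]
        exact P.B.inv_mem he
      · rw [if_neg hzz, hga, ← mul_assoc]
        have hu' : (a⁻¹ * z.out)⁻¹ * a2 ∈ cell P (σ P i) := by
          rcases hu with h | h
          · refine absurd ?_ hzz
            rw [hz0, ← QuotientGroup.out_eq' z, QuotientGroup.eq]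
            rw [show z.out⁻¹ * (a * a2) = (a⁻¹ * z.out)⁻¹ * a2 by group]
            exact (mem_cell_one P).mp h
          · exact h
        have h3 := gen_cell_mul_up P hlt' hu' hg'c
        rw [hw', mul_mul (isInvGen P)] at h3
        exact wOf_eq P h3
    rw [Finset.sum_congr rfl fun z hz => congrArg F (hval z hz), ← Finset.add_sum_erase _ _ hz0S,
      if_pos rfl, Finset.sum_congr rfl (g := fun _ => F w) (fun z hz => by
        rw [if_neg (Finset.ne_of_mem_erase hz)]),
      Finset.sum_const, nsmul_eq_mul, Finset.card_erase_of_mem hz0S,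
      Nat.cast_sub (Finset.card_pos.mpr ⟨z0, hz0S⟩), hcard, Nat.cast_one]

omit hq in
theorem transpose_kerC (F : W P → ℂ) : (kerC P F).transpose = kerC P fun v => F v⁻¹ := by
  ext x y
  rw [Matrix.transpose_apply, kerC_apply, kerC_apply, ← wOf_inv, _root_.mul_inv_rev, inv_inv]

theorem kerC_mul_gen (i : P.S) (F : W P → ℂ) :
    kerC P F * kerC P (dlt (σ P i)) = kerC P (rop (isInvGen P) (q : ℂ) i F) := by
  classical
  apply Matrix.transpose_injective
  rw [Matrix.transpose_mul, transpose_kerC, transpose_kerC, transpose_kerC]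
  have e : (fun v => dlt (σ P i) v⁻¹) = dlt (σ P i) := by
    funext v
    rw [dlt_apply, dlt_apply]
    exact if_congr (by rw [inv_eq_iff_eq_inv, inv_eq (isInvGen P)]) rfl rfl
  rw [e, gen_mul_kerC P hq]
  congr 1
  funext v
  rw [lop_apply, rop_apply]
  have e1 : len (isInvGen P) (v⁻¹ * σ P i) = len (isInvGen P) (σ P i * v) := by
    rw [← len_inv (isInvGen P) (σ P i * v), _root_.mul_inv_rev, inv_eq (isInvGen P)]
  rw [e1, len_inv, show (σ P i * v)⁻¹ = v⁻¹ * σ P i by
    rw [_root_.mul_inv_rev, inv_eq (isInvGen P)]]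

omit hq in
theorem kerC_equi (F : W P → ℂ) : kerC P F ∈ Perm.Equi G (G ⧸ P.B) := by
  intro g x y
  obtain ⟨a, rfl⟩ := QuotientGroup.mk_surjective x
  obtain ⟨b, rfl⟩ := QuotientGroup.mk_surjective y
  simp only [MulAction.Quotient.smul_mk, smul_eq_mul, kerC_mk]
  congr 2
  group

omit hq in
theorem exists_kerC {M : Matrix (G ⧸ P.B) (G ⧸ P.B) ℂ} (hM : M ∈ Perm.Equi G (G ⧸ P.B)) :
    ∃ F, kerC P F = M := by
  refine ⟨fun w => M ((1 : G) : G ⧸ P.B) ((w.out : G) : G ⧸ P.B), ?_⟩
  ext x y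
  obtain ⟨u, rfl⟩ := QuotientGroup.mk_surjective x
  obtain ⟨v, rfl⟩ := QuotientGroup.mk_surjective y
  rw [kerC_mk]
  set w := wOf P (u⁻¹ * v) with hw
  obtain ⟨c, hc, c', hc', e⟩ := DoubleCoset.mem_doubleCoset.mp
    (show u⁻¹ * v ∈ DoubleCoset.doubleCoset (w.out : G) (P.B : Set G) P.B from mem_wOf P _)
  rw [← hM c ((1 : G) : G ⧸ P.B), ← hM u⁻¹ (u : G ⧸ P.B)]
  simp only [MulAction.Quotient.smul_mk, smul_eq_mul, inv_mul_cancel, mul_one, e]
  have e1 : ((c : G) : G ⧸ P.B) = ((1 : G) : G ⧸ P.B) := by rw [QuotientGroup.eq]; simpa using hc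
  have e2 : ((c * (w.out : G) * c' : G) : G ⧸ P.B) = ((c * (w.out : G) : G) : G ⧸ P.B) := by
    rw [QuotientGroup.eq, show (c * (w.out : G) * c')⁻¹ * (c * (w.out : G)) = c'⁻¹ by group]
    exact P.B.inv_mem hc'
  rw [e1, e2]

theorem commute_kerC {F : W P → ℂ}
    (h : ∀ i, Commute (kerC P F) (kerC P (dlt (σ P i)))) (E : W P → ℂ) :
    Commute (kerC P F) (kerC P E) := by
  classical
  have key : ∀ k, ∀ w : W P, ℓ P w = k → Commute (kerC P F) (kerC P (dlt w)) := by
    intro k
    induction k with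
    | zero =>
      intro w hw
      rw [len_eq_zero (isInvGen P) hw, kerC_dlt_one]
      exact Commute.one_right _
    | succ k ih =>
      intro w hw
      obtain ⟨w', j, e, hlen⟩ := exists_right_descent (isInvGen P)
        (w := w⁻¹) (fun e => by rw [inv_eq_one] at e; rw [e, ℓ, len_one] at hw; omega)
      have e' : w = σ P j * w'⁻¹ := by
        rw [← inv_inv w, e, _root_.mul_inv_rev, inv_eq (isInvGen P)]
      have hl' : ℓ P w'⁻¹ + 1 = ℓ P w := by
        have h1 := len_inv (isInvGen P) w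
        have h2 := len_inv (isInvGen P) w'
        simp only [ℓ] at *
        omega
      have hup : len (isInvGen P) w'⁻¹ < len (isInvGen P) (σ P j * w'⁻¹) := by
        rw [← e']; simp only [ℓ] at hl'; omega
      rw [e', ← lop_dlt_up (isInvGen P) (hasExchange P) (q : ℂ) hup, ← gen_mul_kerC P hq]
      exact (h j).mul_right (ih _ (by omega))
  haveI : Fintype (W P) := Fintype.ofFinite _
  rw [eq_sum_dlt E, map_sum]
  refine Commute.sum_right _ _ _ fun w _ => ?_
  rw [map_smul]
  exact (key _ w rfl).smul_right _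

open Classical in
theorem mem_zc_iff [Fintype G] {F : W P → ℂ} :
    kerC P F ∈ Perm.Zc G (G ⧸ P.B) ↔ F ∈ LinearMap.ker (kmap (isInvGen P) ((q : ℝ) : ℂ)) := by
  have hk : ∀ i, Commute (kerC P F) (kerC P (dlt (σ P i))) ↔
      lop (isInvGen P) (q : ℂ) i F = rop (isInvGen P) (q : ℂ) i F := by
    intro i
    rw [Commute, SemiconjBy, kerC_mul_gen P hq, gen_mul_kerC P hq, eq_comm]
    exact (kerC_injective P).eq_iff
  rw [LinearMap.mem_ker, Complex.ofReal_natCast, funext_iff]
  simp only [kmap, LinearMap.pi_apply, LinearMap.sub_apply, Pi.zero_apply, sub_eq_zero, ← hk]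
  constructor
  · intro h i
    exact h.2 _ (kerC_equi P _)
  · intro h
    refine ⟨kerC_equi P _, fun N hN => ?_⟩
    obtain ⟨E, rfl⟩ := exists_kerC P hN
    exact commute_kerC P hq h E

/-- The constituents of the principal permutation character are as many as the classes of the
Weyl group. -/
theorem card_constituents_eq [Fintype G] :
    Nat.card {χ : Cfsg.IrrCharacter G // ∃ φ : G → ℂ, Cfsg.IsCharacter G φ ∧
      Cfsg.fixedPointCharacter P.B = (χ : G → ℂ) + φ} = Nat.card (ConjClasses (W P)) := by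
  classical
  haveI : Fintype P.S := Fintype.ofFinite _
  rcases isEmpty_or_nonempty P.S with hS | hS
  · have hsub : ∀ w : W P, w = 1 := fun w => by
      obtain ⟨l, rfl⟩ := (isInvGen P).gen w
      rcases l with _ | ⟨i, l⟩
      · simp
      · exact isEmptyElim i
    have hall : ∀ g : G, g ∈ P.B := fun g => by
      have := mem_wOf P g
      rw [hsub (wOf P g)] at this
      exact (mem_cell_one P).1 this
    have hz : Perm.Zc G (G ⧸ P.B) = Submodule.map (kerC P) ⊤ := by
      refine le_antisymm (fun M hM => ?_) ?_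
      · obtain ⟨F, rfl⟩ := exists_kerC P hM.1
        exact ⟨F, trivial, rfl⟩
      · rintro _ ⟨F, -, rfl⟩
        refine ⟨kerC_equi P F, fun N hN => ?_⟩
        obtain ⟨E, rfl⟩ := exists_kerC P hN
        exact commute_kerC P hq (fun i => isEmptyElim i) E
    haveI : Subsingleton (W P) := ⟨fun a b => by rw [hsub a, hsub b]⟩
    rw [Perm.card_constituents, hz,
      (Submodule.equivMapOfInjective _ (kerC_injective P) ⊤).finrank_eq.symm, finrank_top,
      Module.finrank_fintype_fun_eq_card, ← Nat.card_eq_fintype_card]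
    exact (Nat.card_congr (Equiv.ofBijective ConjClasses.mk
      ⟨fun a b _ => Subsingleton.elim a b, ConjClasses.mk_surjective⟩))
  · obtain ⟨s⟩ := hS
    have hqpos : (0 : ℝ) < q := by
      have := two_le_par P s
      rw [par, hq] at this
      linarith
    have hz : Perm.Zc G (G ⧸ P.B) =
        Submodule.map (kerC P) (LinearMap.ker (kmap (isInvGen P) ((q : ℝ) : ℂ))) := by
      refine le_antisymm (fun M hM => ?_) ?_
      · obtain ⟨F, rfl⟩ := exists_kerC P hM.1
        exact ⟨F, (mem_zc_iff P hq).1 hM, rfl⟩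
      · rintro _ ⟨F, hF, rfl⟩
        exact (mem_zc_iff P hq).2 hF
    rw [Perm.card_constituents, hz,
      (Submodule.equivMapOfInjective _ (kerC_injective P) _).finrank_eq.symm,
      finrank_ker_eq (isInvGen P) (hasExchange P) (σ_ne_one P) ⟨(q : ℝ), hqpos⟩ ⟨1, one_pos⟩]
    exact finrank_ker_one (isInvGen P) (hasExchange P) (σ_ne_one P)

end CfsgLib.BNPair.Hecke.Grp
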