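import Cfsg.Agent.Lib.Chevalley.Bruhat
import Cfsg.Agent.Lib.Chevalley.Length
import Cfsg.Agent.Lib.Chevalley.Coxeter
import Cfsg.Agent.Lib.BNPair.Hecke.Group
import Mathlib

set_option autoImplicit false

/-! The Hecke count for the Chevalley groups. -/

namespace CfsgLib.BNPair.Hecke.Chev

open CfsgLib.Chevalley CfsgLib.BNPair CfsgLib.BNPair.Basic CfsgLib.BNPair.Count

variable {T : Tbl} {F : Type*} [Field F] (hT : T.Valid) (hC : T.chkComm = true)

theorem weight_gen [Fintype F] [Finite ↥(T.datum.group F)] (s : (Tbl.bnPair hT hC F).S) :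
    weight (Tbl.bnPair hT hC F) (σ (Tbl.bnPair hT hC F) s) = Fintype.card F := by
  classical
  let P := Tbl.bnPair hT hC F
  obtain ⟨i, hi, hs⟩ := s.2
  rw [Tbl.eq_nMat_simple_iff hT hi] at hs
  let j : Fin T.rank := ⟨i, hi⟩
  set n : GL T.I F := T.nU F (T.simple i) 1 with hn
  have hnN : n ∈ T.datum.monomialSubgroup F := Tbl.nU_simple_mem_N hT j
  have hw : T.refP hT j ∈ T.WP hT := Subgroup.subset_closure ⟨j, rfl⟩
  have hm : T.Mono n (T.refP hT j) := Tbl.mono_nU_simple hT j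
  have hU : T.rootGen F (T.negSet (T.refP hT j)) ≤ T.datum.borelSubgroup F :=
    Tbl.rootGen_le fun r hr ⟨_, hp, _⟩ t => Tbl.pos_le_borel hT hr hp t
  have key : ∀ u : T.rootGen F (T.negSet (T.refP hT j)),
      (u : GL T.I F)⁻¹ * n⁻¹ ∈ T.datum.group F := fun u =>
    mul_mem (inv_mem (Tbl.borel_le_group hT (hU u.2))) (inv_mem (Tbl.monomial_le_group hT hnN))
  let f : T.rootGen F (T.negSet (T.refP hT j)) →
      {z : ↥(T.datum.group F) ⧸ P.B // wOf P z.out = σ P s} := fun u =>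
    ⟨QuotientGroup.mk ⟨_, key u⟩, by
      obtain ⟨c, hc, e⟩ := out_eq_mul P (⟨_, key u⟩ : ↥(T.datum.group F))
      rw [e]
      refine wOf_eq P (cell_mul P ?_ hc)
      have h1 : (s : ↥(T.datum.group F)) ∈ cell P (σ P s) := mem_cell_proj P (sN P s)
      have h2 := inv_mem_cell P h1
      rw [Exchange.inv_eq (isInvGen P)] at h2
      have h3 := mul_cell P h2 (b := (⟨(u : GL T.I F)⁻¹,
        inv_mem (Tbl.borel_le_group hT (hU u.2))⟩ : ↥(T.datum.group F)))
        (Subgroup.mem_subgroupOf.2 (inv_mem (hU u.2)))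
      convert h3 using 1
      exact Subtype.ext (by simp [hs, hn])⟩
  rw [weight, ← Nat.card_eq_of_bijective f ⟨fun u u' h => ?_, fun z => ?_⟩, Tbl.card_negSet hT hC hw,
    Tbl.invN_refP, pow_one]
  · have h1 := congrArg Subtype.val h
    change (QuotientGroup.mk (⟨_, key u⟩ : ↥(T.datum.group F)) : ↥(T.datum.group F) ⧸ P.B) =
      QuotientGroup.mk (⟨_, key u'⟩ : ↥(T.datum.group F)) at h1
    rw [QuotientGroup.eq] at h1
    have h2 : ((u : GL T.I F)⁻¹ * n⁻¹)⁻¹ * ((u' : GL T.I F)⁻¹ * n⁻¹) ∈ T.datum.borelSubgroup F :=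
      Subgroup.mem_subgroupOf.1 h1
    obtain ⟨-, h3⟩ := Tbl.canonical_unique hT hC h2 (one_mem _) hnN hnN hm u'.2 u.2
      (by group)
    exact (Subtype.ext (h3 hm rfl).2).symm
  · obtain ⟨z, hz⟩ := z
    set g : ↥(T.datum.group F) := z.out⁻¹ with hg
    obtain ⟨b, hb, n', hn', w, -, hm', u, hu, e⟩ := Tbl.exists_canonical hT hC g.2
    let N' : ↥P.N := ⟨⟨n', Tbl.monomial_le_group hT hn'⟩, Subgroup.mem_subgroupOf.2 hn'⟩
    have huB : u ∈ T.datum.borelSubgroup F :=
      (Tbl.rootGen_le fun r hr ⟨_, hp, _⟩ t => Tbl.pos_le_borel hT hr hp t :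
        T.rootGen F (T.negSet w) ≤ T.datum.borelSubgroup F) hu
    have h1 : g ∈ cell P (proj P N') := by
      rw [cell_proj, DoubleCoset.mem_doubleCoset]
      exact ⟨⟨b, Tbl.borel_le_group hT hb⟩, Subgroup.mem_subgroupOf.2 hb,
        ⟨u, Tbl.borel_le_group hT huB⟩, Subgroup.mem_subgroupOf.2 huB, Subtype.ext e⟩
    have h2 : g ∈ cell P (σ P s) := by
      have := inv_mem_cell P (hz ▸ mem_wOf P z.out)
      rwa [Exchange.inv_eq (isInvGen P)] at this
    have h3 := (proj_eq_iff P).1 (cell_inj P h2 h1)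
    have hd : n⁻¹ * n' ∈ T.datum.diagonalSubgroup F := by
      refine (Tbl.borel_inf_monomial (T := T) (F := F) hT).le
        (Subgroup.mem_inf.2 ⟨?_, mul_mem (inv_mem hnN) hn'⟩)
      have := Subgroup.mem_subgroupOf.1 h3
      simpa [hs, hn, N'] using this
    have hw' : T.refP hT j = w := by
      have h4 := (hm.inv.mul hm').unique (Tbl.mono_diag hT hd)
      rwa [inv_mul_eq_one] at h4
    subst hw'
    refine ⟨⟨u, hu⟩, Subtype.ext ?_⟩
    show (QuotientGroup.mk (⟨_, key ⟨u, hu⟩⟩ : ↥(T.datum.group F)) : ↥(T.datum.group F) ⧸ P.B) = z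
    conv_rhs => rw [← QuotientGroup.out_eq' z]
    rw [QuotientGroup.eq]
    refine Subgroup.mem_subgroupOf.2 ?_
    have e2 : ((z.out : ↥(T.datum.group F)) : GL T.I F) = (b * n' * u)⁻¹ := by
      rw [← e, hg]; simp
    have e3 : ((u : GL T.I F)⁻¹ * n⁻¹)⁻¹ * (b * n' * u)⁻¹ =
        (n * (n⁻¹ * n')⁻¹ * n⁻¹) * b⁻¹ := by group
    show ((u : GL T.I F)⁻¹ * n⁻¹)⁻¹ * ((z.out : ↥(T.datum.group F)) : GL T.I F) ∈ _
    rw [e2, e3]
    exact mul_mem (Subgroup.mem_sup_right (Tbl.conj_diag hT hnN (inv_mem hd))) (inv_mem hb)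

theorem exists_weyl_equiv :
    Nonempty (W (Tbl.bnPair hT hC F) ≃* ↥(T.WP hT)) := by
  let P := Tbl.bnPair hT hC F
  let φ : ↥P.N →* ↥(T.WP hT) := (Tbl.wHom F hT).comp
    { toFun := fun g => ⟨((g : ↥(T.datum.group F)) : GL T.I F), Subgroup.mem_subgroupOf.1 g.2⟩
      map_one' := rfl
      map_mul' := fun _ _ => rfl }
  have hker : φ.ker = Basic.T P := by
    ext g
    rw [MonoidHom.mem_ker, Basic.mem_T]
    have e := SetLike.ext_iff.1 (Tbl.wHom_ker (F := F) hT)
      ⟨((g : ↥(T.datum.group F)) : GL T.I F), Subgroup.mem_subgroupOf.1 g.2⟩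
    refine ((MonoidHom.mem_ker.symm.trans (e.trans Subgroup.mem_subgroupOf)) :
      φ g = 1 ↔ ((g : ↥(T.datum.group F)) : GL T.I F) ∈ T.datum.diagonalSubgroup F).trans ⟨fun h => Subgroup.mem_subgroupOf.2 (Subgroup.mem_sup_right h), fun h => ?_⟩
    exact (Tbl.borel_inf_monomial (T := T) (F := F) hT).le
      (Subgroup.mem_inf.2 ⟨Subgroup.mem_subgroupOf.1 h, Subgroup.mem_subgroupOf.1 g.2⟩)
  have hsurj : Function.Surjective φ := fun w => by
    obtain ⟨g, hg⟩ := Tbl.wHom_surjective (F := F) hT w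
    exact ⟨⟨⟨g, Tbl.monomial_le_group hT g.2⟩, Subgroup.mem_subgroupOf.2 g.2⟩, hg⟩
  exact ⟨(QuotientGroup.quotientMulEquivOfEq hker.symm).trans
    (QuotientGroup.quotientKerEquivOfSurjective φ hsurj)⟩

include hT hC in
/-- The constituents of the principal series of a Chevalley group. -/
theorem card_constituents [Fintype F] (M : CoxeterMatrix (Fin T.rank))
    (hM : ∀ i j : Fin T.rank, T.chkOrd [i.val, j.val] (M i j) = true) :
    Nat.card {χ : Cfsg.IrrCharacter ↥(T.datum.group F) //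
      ∃ φ : ↥(T.datum.group F) → ℂ, Cfsg.IsCharacter ↥(T.datum.group F) φ ∧
        Cfsg.fixedPointCharacter ((T.datum.borelSubgroup F).subgroupOf (T.datum.group F)) =
          (χ : ↥(T.datum.group F) → ℂ) + φ} = Nat.card (ConjClasses M.Group) := by
  classical
  haveI : Fintype ↥(T.datum.group F) := Fintype.ofFinite _
  obtain ⟨e⟩ := exists_weyl_equiv (F := F) hT hC
  obtain ⟨e', -⟩ := Tbl.exists_coxeter hT M hM
  have h := Grp.card_constituents_eq (Tbl.bnPair hT hC F) (weight_gen hT hC)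
  refine Eq.trans h (Nat.card_congr ?_)
  refine Equiv.ofBijective (ConjClasses.map (e.trans e').toMonoidHom) ⟨?_, ConjClasses.map_surjective (e.trans e').surjective⟩
  intro a b hab
  induction a using Quotient.inductionOn with
  | h x =>
    induction b using Quotient.inductionOn with
    | h y =>
      have h1 := ConjClasses.mk_eq_mk_iff_isConj.1 hab
      have h2 := MonoidHom.map_isConj (e.trans e').symm.toMonoidHom h1
      simp at h2
      exact ConjClasses.mk_eq_mk_iff_isConj.2 (isConj_iff.2 h2)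

end CfsgLib.BNPair.Hecke.Chev
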