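import Cfsg.Agent.Lib.BNPair.Exchange
import Mathlib

set_option autoImplicit false
set_option linter.unusedSectionVars false

/-! The generic Hecke algebra of a finite Coxeter group, acting on functions on the group. -/

namespace CfsgLib.BNPair.Hecke

open CfsgLib.BNPair.Exchange

variable {ι W : Type*} [Group W] {σ : ι → W} (hσ : IsInvGen σ)

/-- Left multiplication by a generator, with parameter `t`. -/
noncomputable def lop (t : ℂ) (i : ι) : Module.End ℂ (W → ℂ) where
  toFun a v := if len hσ v < len hσ (σ i * v) then t * a (σ i * v) else a (σ i * v) + (t - 1) * a v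
  map_add' a b := by funext v; simp only [Pi.add_apply]; split <;> ring
  map_smul' c a := by funext v; simp only [Pi.smul_apply, smul_eq_mul, RingHom.id_apply]; split <;> ring

/-- Right multiplication by a generator, with parameter `t`. -/
noncomputable def rop (t : ℂ) (i : ι) : Module.End ℂ (W → ℂ) where
  toFun a v := if len hσ v < len hσ (v * σ i) then t * a (v * σ i) else a (v * σ i) + (t - 1) * a v
  map_add' a b := by funext v; simp only [Pi.add_apply]; split <;> ring
  map_smul' c a := by funext v; simp only [Pi.smul_apply, smul_eq_mul, RingHom.id_apply]; split <;> ring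

theorem lop_apply (t : ℂ) (i : ι) (a : W → ℂ) (v : W) : lop hσ t i a v =
    if len hσ v < len hσ (σ i * v) then t * a (σ i * v) else a (σ i * v) + (t - 1) * a v := rfl

theorem rop_apply (t : ℂ) (i : ι) (a : W → ℂ) (v : W) : rop hσ t i a v =
    if len hσ v < len hσ (v * σ i) then t * a (v * σ i) else a (v * σ i) + (t - 1) * a v := rfl

variable (hx : HasExchange hσ)
include hx

theorem left_parity (i : ι) (w : W) :
    len hσ (σ i * w) = len hσ w + 1 ∨ len hσ (σ i * w) + 1 = len hσ w := by
  rcases Nat.lt_or_ge (len hσ w) (len hσ (σ i * w)) with h | h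
  · exact .inl (by have := len_gen_mul_le hσ i w; omega)
  · exact .inr (len_lt_of_le hσ hx h)

theorem right_parity (i : ι) (w : W) :
    len hσ (w * σ i) = len hσ w + 1 ∨ len hσ (w * σ i) + 1 = len hσ w := by
  have h := left_parity hσ hx i w⁻¹
  rwa [show σ i * w⁻¹ = (w * σ i)⁻¹ by rw [_root_.mul_inv_rev, inv_eq hσ], len_inv, len_inv] at h

theorem left_eq_right_up {i j : ι} {w : W} (ha : len hσ (σ i * w) = len hσ w + 1)
    (hb : len hσ (w * σ j) = len hσ w + 1) (hc : len hσ (σ i * (w * σ j)) = len hσ w) :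
    σ i * w = w * σ j := by
  obtain ⟨l, hl, rfl⟩ := exists_reduced hσ w
  have hl' : len hσ (l.map σ).prod = l.length := hl
  have hp : ((l ++ [j]).map σ).prod = (l.map σ).prod * σ j := by simp
  have hred : Reduced hσ (l ++ [j]) := by
    show len hσ _ = _
    rw [hp, hb, hl', List.length_append, List.length_singleton]
  obtain ⟨k, hk, he⟩ := hx i (l ++ [j]) hred (by rw [hp, hc, hl', List.length_append]; omega)
  rw [List.length_append, List.length_singleton] at hk
  rcases Nat.eq_or_lt_of_le (Nat.le_of_lt_succ hk) with h | h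
  · subst h
    rw [List.take_left' rfl, List.take_of_length_le (by simp)] at he
    rw [he, hp]
  · exfalso
    rw [List.take_append_of_le_length h.le, List.take_append_of_le_length h] at he
    have h1 := prod_eraseIdx_of_exchange i l k he
    have h2 : σ i * (l.map σ).prod = ((l.eraseIdx k).map σ).prod := by
      conv_lhs => rw [h1]
      rw [← mul_assoc, hσ.mul_self, one_mul]
    have h3 := len_le hσ (l.eraseIdx k)
    rw [← h2, ha, hl', List.length_eraseIdx_of_lt h] at h3
    omega

theorem left_eq_right {i j : ι} {w : W} (hab : len hσ (σ i * w) = len hσ (w * σ j))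
    (hc : len hσ (σ i * (w * σ j)) = len hσ w) : σ i * w = w * σ j := by
  rcases left_parity hσ hx i w with ha | ha
  · exact left_eq_right_up hσ hx ha (hab ▸ ha) hc
  · have e1 : σ i * (σ i * w) = w := mul_mul hσ i w
    have e2 : σ i * (σ i * w * σ j) = w * σ j := by rw [← mul_assoc, e1]
    have h := left_eq_right_up hσ hx (i := i) (j := j) (w := σ i * w) (by rw [e1]; omega)
      (by rw [mul_assoc, hc]; omega) (by rw [e2]; omega)
    rw [e1] at h
    conv_rhs => rw [h]
    rw [mul_assoc, hσ.mul_self, mul_one]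

theorem lop_comm_rop (t : ℂ) (i j : ι) : Commute (lop hσ t i) (rop hσ t j) := by
  refine LinearMap.ext fun a => funext fun v => ?_
  show lop hσ t i (rop hσ t j a) v = rop hσ t j (lop hσ t i a) v
  have h1 := left_parity hσ hx i v
  have h2 := right_parity hσ hx j v
  have h3 := left_parity hσ hx i (v * σ j)
  have h4 := right_parity hσ hx j (σ i * v)
  rw [mul_assoc] at h4
  by_cases e : σ i * v = v * σ j
  · have e1 : σ i * (v * σ j) = v := by rw [← e, mul_mul hσ]
    have e2 : σ i * v * σ j = v := by rw [mul_assoc, e1]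
    have e3 : v * σ j * σ j = v := by rw [mul_assoc, hσ.mul_self, mul_one]
    simp only [lop_apply, rop_apply, e1, e, e3]
  · have hne : len hσ (σ i * v) ≠ len hσ (v * σ j) ∨ len hσ (σ i * (v * σ j)) ≠ len hσ v :=
      not_and_or.1 fun p => e (left_eq_right hσ hx p.1 p.2)
    simp only [lop_apply, rop_apply, mul_assoc]
    split_ifs <;> first | ring1 | (exfalso; rcases h1 with h1 | h1 <;> rcases h2 with h2 | h2 <;> omega)

/-- Delta functions. -/
noncomputable def dlt (w : W) : W → ℂ := fun v => by classical exact if v = w then 1 else 0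

omit hσ hx in
theorem dlt_apply (w v : W) [Decidable (v = w)] : dlt w v = if v = w then 1 else 0 := by
  unfold dlt; split <;> simp_all

theorem lop_dlt_up (t : ℂ) {i : ι} {w : W} (h : len hσ w < len hσ (σ i * w)) :
    lop hσ t i (dlt w) = dlt (σ i * w) := by
  classical
  funext v
  rw [lop_apply]
  simp only [dlt_apply]
  by_cases h1 : v = σ i * w
  · subst h1
    rw [mul_mul hσ, if_neg (by omega), if_neg (fun e : σ i * w = w => by rw [e] at h; omega)]
    simp
  · have h2 : σ i * v ≠ w := fun e => h1 (by rw [← e, mul_mul hσ])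
    by_cases h3 : v = w
    · subst h3; simp [h, h1, h2]
    · simp [h1, h2, h3]

theorem lop_dlt_down (t : ℂ) {i : ι} {w : W} (h : len hσ (σ i * w) < len hσ w) :
    lop hσ t i (dlt w) = (t - 1) • dlt w + t • dlt (σ i * w) := by
  classical
  funext v
  rw [lop_apply, Pi.add_apply, Pi.smul_apply, Pi.smul_apply, smul_eq_mul, smul_eq_mul]
  simp only [dlt_apply]
  have hne : σ i * w ≠ w := fun e => by rw [e] at h; omega
  by_cases h1 : v = σ i * w
  · subst h1
    rw [mul_mul hσ, if_pos h]
    simp [hne]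
  · have h2 : σ i * v ≠ w := fun e => h1 (by rw [← e, mul_mul hσ])
    by_cases h3 : v = w
    · subst h3; simp [not_lt.2 h.le, h1, h2]
    · simp [h1, h2, h3]

theorem rop_dlt_up (t : ℂ) {i : ι} {w : W} (h : len hσ w < len hσ (w * σ i)) :
    rop hσ t i (dlt w) = dlt (w * σ i) := by
  classical
  funext v
  rw [rop_apply]
  simp only [dlt_apply]
  have e0 : ∀ x : W, x * σ i * σ i = x := fun x => by rw [mul_assoc, hσ.mul_self, mul_one]
  by_cases h1 : v = w * σ i
  · subst h1
    rw [e0, if_neg (by omega), if_neg (fun e : w * σ i = w => by rw [e] at h; omega)]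
    simp
  · have h2 : v * σ i ≠ w := fun e => h1 (by rw [← e, e0])
    by_cases h3 : v = w
    · subst h3; simp [h, h1, h2]
    · simp [h1, h2, h3]

theorem len_gen (i : ι) (hne : σ i ≠ 1) : len hσ (σ i) = 1 := by
  have h1 := len_gen_le hσ i
  have h2 : len hσ (σ i) ≠ 0 := fun h => hne (len_eq_zero hσ h)
  omega

omit hx in
theorem exists_right_descent {w : W} (hw : w ≠ 1) :
    ∃ (w' : W) (j : ι), w = w' * σ j ∧ len hσ w' + 1 = len hσ w := by
  obtain ⟨l, hl, rfl⟩ := exists_reduced hσ w
  obtain ⟨l', j, rfl⟩ := (List.eq_nil_or_concat l).resolve_left (fun e => hw (by simp [e]))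
  refine ⟨(l'.map σ).prod, j, by simp, ?_⟩
  rw [List.concat_eq_append] at hl ⊢
  rw [hl, (reduced_append hσ hl).1, List.length_append, List.length_singleton]

/-- The commutant of right multiplication. -/
def RC (t : ℂ) : Subalgebra ℂ (Module.End ℂ (W → ℂ)) :=
  Subalgebra.centralizer ℂ (Set.range (rop hσ t))

theorem mem_RC {t : ℂ} {X : Module.End ℂ (W → ℂ)} :
    X ∈ RC hσ t ↔ ∀ j, Commute (rop hσ t j) X := by
  rw [RC, Subalgebra.mem_centralizer_iff]
  exact ⟨fun h j => h _ ⟨j, rfl⟩, by rintro h _ ⟨j, rfl⟩; exact h j⟩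

theorem lop_mem (t : ℂ) (i : ι) : lop hσ t i ∈ RC hσ t :=
  (mem_RC hσ hx).2 fun j => (lop_comm_rop hσ hx t i j).symm

theorem rc_apply_mul {t : ℂ} {X : Module.End ℂ (W → ℂ)} (hX : X ∈ RC hσ t) {w : W} {j : ι}
    (h : len hσ w < len hσ (w * σ j)) : X (dlt (w * σ j)) = rop hσ t j (X (dlt w)) := by
  rw [← rop_dlt_up hσ hx t h]
  exact (LinearMap.congr_fun ((mem_RC hσ hx).1 hX j) (dlt w)).symm

variable [Finite W]

omit hσ hx in
theorem eq_sum_dlt [Fintype W] (a : W → ℂ) : a = ∑ w, a w • dlt w := by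
  classical
  funext v
  simp [dlt_apply]

theorem rc_ext {t : ℂ} {X Y : Module.End ℂ (W → ℂ)} (hX : X ∈ RC hσ t) (hY : Y ∈ RC hσ t)
    (h : X (dlt 1) = Y (dlt 1)) : X = Y := by
  haveI : Fintype W := Fintype.ofFinite W
  have key : ∀ k, ∀ w : W, len hσ w = k → X (dlt w) = Y (dlt w) := by
    intro k
    induction k with
    | zero => intro w hw; rw [len_eq_zero hσ hw]; exact h
    | succ k ih =>
      intro w hw
      obtain ⟨w', j, rfl, hl⟩ := exists_right_descent hσ (w := w) (fun e => by rw [e, len_one] at hw; omega)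
      rw [rc_apply_mul hσ hx hX (by omega), rc_apply_mul hσ hx hY (by omega), ih w' (by omega)]
  refine LinearMap.ext fun a => ?_
  rw [eq_sum_dlt a, map_sum, map_sum]
  exact Finset.sum_congr rfl fun w _ => by rw [map_smul, map_smul, key _ w rfl]

omit hx in
/-- The operator of a word. -/
noncomputable def wordOp (t : ℂ) (l : List ι) : Module.End ℂ (W → ℂ) := (l.map (lop hσ t)).prod

theorem wordOp_mem (t : ℂ) (l : List ι) : wordOp hσ t l ∈ RC hσ t := by
  induction l with
  | nil => exact one_mem _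
  | cons i l ih => rw [wordOp, List.map_cons, List.prod_cons]; exact mul_mem (lop_mem hσ hx t i) ih

theorem wordOp_dlt (t : ℂ) {l : List ι} (hl : Reduced hσ l) :
    wordOp hσ t l (dlt 1) = dlt (l.map σ).prod := by
  induction l with
  | nil => rfl
  | cons i l ih =>
    have hl' := reduced_tail hσ hl
    show lop hσ t i (wordOp hσ t l (dlt 1)) = _
    rw [ih hl', lop_dlt_up hσ hx t]
    · simp
    · unfold Reduced at hl hl'
      rw [List.map_cons, List.prod_cons, List.length_cons] at hl
      omega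

omit hx in
/-- The standard basis element of `w`. -/
noncomputable def tW (t : ℂ) (w : W) : Module.End ℂ (W → ℂ) :=
  wordOp hσ t (Classical.choose (exists_reduced hσ w))

theorem tW_mem (t : ℂ) (w : W) : tW hσ t w ∈ RC hσ t := wordOp_mem hσ hx t _

theorem tW_dlt (t : ℂ) (w : W) : tW hσ t w (dlt 1) = dlt w := by
  obtain ⟨h1, h2⟩ := Classical.choose_spec (exists_reduced hσ w)
  exact (wordOp_dlt hσ hx t h1).trans (congrArg dlt h2)

theorem tW_eq_wordOp (t : ℂ) {l : List ι} (hl : Reduced hσ l) :
    tW hσ t (l.map σ).prod = wordOp hσ t l :=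
  rc_ext hσ hx (tW_mem hσ hx t _) (wordOp_mem hσ hx t l) (by rw [tW_dlt hσ hx, wordOp_dlt hσ hx t hl])

theorem tW_one (t : ℂ) : tW hσ t (1 : W) = 1 :=
  rc_ext hσ hx (tW_mem hσ hx t _) (one_mem _) (by rw [tW_dlt hσ hx, Module.End.one_apply])

theorem lop_tW_up (t : ℂ) {i : ι} {w : W} (h : len hσ w < len hσ (σ i * w)) :
    lop hσ t i * tW hσ t w = tW hσ t (σ i * w) :=
  rc_ext hσ hx (mul_mem (lop_mem hσ hx t i) (tW_mem hσ hx t w)) (tW_mem hσ hx t _)
    (by rw [Module.End.mul_apply, tW_dlt hσ hx, tW_dlt hσ hx, lop_dlt_up hσ hx t h])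

theorem lop_tW_down (t : ℂ) {i : ι} {w : W} (h : len hσ (σ i * w) < len hσ w) :
    lop hσ t i * tW hσ t w = (t - 1) • tW hσ t w + t • tW hσ t (σ i * w) :=
  rc_ext hσ hx (mul_mem (lop_mem hσ hx t i) (tW_mem hσ hx t w))
    (add_mem (Subalgebra.smul_mem _ (tW_mem hσ hx t _) _) (Subalgebra.smul_mem _ (tW_mem hσ hx t _) _))
    (by rw [Module.End.mul_apply, LinearMap.add_apply, LinearMap.smul_apply, LinearMap.smul_apply,
      tW_dlt hσ hx, tW_dlt hσ hx, lop_dlt_down hσ hx t h])

theorem tW_mul_lop_up (t : ℂ) {i : ι} {w : W} (h : len hσ w < len hσ (w * σ i)) :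
    tW hσ t w * lop hσ t i = tW hσ t (w * σ i) := by
  obtain ⟨l, hl, rfl⟩ := exists_reduced hσ w
  have hp : ((l ++ [i]).map σ).prod = (l.map σ).prod * σ i := by simp
  have hr : Reduced hσ (l ++ [i]) := by
    show len hσ _ = _
    have h2 := right_parity hσ hx i (l.map σ).prod
    unfold Reduced at hl
    rw [hp, List.length_append, List.length_singleton]
    omega
  rw [← hp, tW_eq_wordOp hσ hx t hr, tW_eq_wordOp hσ hx t hl]
  simp [wordOp]

theorem lop_sq (t : ℂ) (i : ι) (hne : σ i ≠ 1) :
    lop hσ t i * lop hσ t i = (t - 1) • lop hσ t i + t • 1 := by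
  have e : tW hσ t (σ i) = lop hσ t i := by
    have := lop_tW_up hσ hx t (i := i) (w := 1) (by rw [mul_one, len_one, len_gen hσ hx i hne]; omega)
    rw [tW_one hσ hx, mul_one, mul_one] at this
    exact this.symm
  have := lop_tW_down hσ hx t (i := i) (w := σ i) (by rw [hσ.mul_self, len_one, len_gen hσ hx i hne]; omega)
  rwa [hσ.mul_self, tW_one hσ hx, e] at this

theorem tW_mul_lop_down (t : ℂ) {i : ι} {w : W} (hne : σ i ≠ 1) (h : len hσ (w * σ i) < len hσ w) :
    tW hσ t w * lop hσ t i = (t - 1) • tW hσ t w + t • tW hσ t (w * σ i) := by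
  have e0 : w * σ i * σ i = w := by rw [mul_assoc, hσ.mul_self, mul_one]
  have h1 := tW_mul_lop_up hσ hx t (i := i) (w := w * σ i) (by rwa [e0])
  rw [e0] at h1
  conv_lhs => rw [← h1]
  rw [mul_assoc, lop_sq hσ hx t i hne, mul_add, mul_smul_comm, mul_smul_comm, h1, mul_one]

end CfsgLib.BNPair.Hecke
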