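import Cfsg.Agent.Lib.BNPair.Hecke.Family
import Mathlib

set_option autoImplicit false
set_option linter.unusedSectionVars false

/-! The centre of the Hecke algebra is the image of the Casimir map, for a positive parameter. -/

namespace CfsgLib.BNPair.Hecke

open CfsgLib.BNPair.Exchange
open scoped ComplexConjugate

variable {ι W : Type*} [Group W] [Fintype W] {σ : ι → W} (hσ : IsInvGen σ) (hx : HasExchange hσ)
  (hne : ∀ i, σ i ≠ 1)

/-- The element of the Hecke algebra with the given coordinates. -/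
noncomputable def lam (t : ℂ) : (W → ℂ) →ₗ[ℂ] Module.End ℂ (W → ℂ) where
  toFun a := ∑ w, a w • tW hσ t w
  map_add' a b := by simp [add_smul, Finset.sum_add_distrib]
  map_smul' c a := by simp [Finset.smul_sum, smul_smul]

/-- The commutation defect with the generators. -/
noncomputable def kmap (t : ℂ) : (W → ℂ) →ₗ[ℂ] (ι → W → ℂ) :=
  LinearMap.pi fun i => lop hσ t i - rop hσ t i

/-- The Casimir map on operators. -/
noncomputable def casimir (t : ℂ) (X : Module.End ℂ (W → ℂ)) : Module.End ℂ (W → ℂ) :=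
  ∑ w, ((t ^ len hσ w)⁻¹) • (tW hσ t w * X * tW hσ t w⁻¹)

/-- The Casimir map in coordinates. -/
noncomputable def gmap (t : ℂ) : (W → ℂ) →ₗ[ℂ] (W → ℂ) where
  toFun a := casimir hσ t (lam hσ t a) (dlt 1)
  map_add' a b := by simp [casimir, map_add, mul_add, add_mul, Finset.sum_add_distrib]
  map_smul' c a := by
    simp only [casimir, map_smul, mul_smul_comm, smul_mul_assoc, LinearMap.sum_apply, LinearMap.smul_apply,
      Finset.smul_sum, RingHom.id_apply]
    exact Finset.sum_congr rfl fun w _ => smul_comm _ _ _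

/-- The invariant norm. -/
noncomputable def nrmSq (t : ℝ) (a : W → ℂ) : ℝ := ∑ w, t ^ len hσ w * Complex.normSq (a w)

/-- The invariant inner product. -/
noncomputable def pairing (t : ℝ) (a b : W → ℂ) : ℂ := ∑ w, ((t : ℂ) ^ len hσ w) * (conj (a w) * b w)

theorem pairing_self (t : ℝ) (a : W → ℂ) : pairing hσ t a a = (nrmSq hσ t a : ℂ) := by
  rw [pairing, nrmSq]
  push_cast
  exact Finset.sum_congr rfl fun w _ => by rw [Complex.normSq_eq_conj_mul_self]

include hx

theorem lam_mem (t : ℂ) (a : W → ℂ) : lam hσ t a ∈ RC hσ t :=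
  Subalgebra.sum_mem _ fun w _ => Subalgebra.smul_mem _ (tW_mem hσ hx t w) _

theorem lam_dlt (t : ℂ) (a : W → ℂ) : lam hσ t a (dlt 1) = a := by
  show (∑ w, a w • tW hσ t w) (dlt 1) = a
  simp only [LinearMap.sum_apply, LinearMap.smul_apply, tW_dlt hσ hx]
  exact (eq_sum_dlt a).symm

theorem casimir_mem (t : ℂ) {X : Module.End ℂ (W → ℂ)} (hX : X ∈ RC hσ t) : casimir hσ t X ∈ RC hσ t :=
  Subalgebra.sum_mem _ fun w _ =>
    Subalgebra.smul_mem _ (mul_mem (mul_mem (tW_mem hσ hx t w) hX) (tW_mem hσ hx t _)) _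

include hne

theorem rop_dlt_one (t : ℂ) (i : ι) : rop hσ t i (dlt (1 : W)) = dlt (σ i) := by
  rw [rop_dlt_up hσ hx t (by rw [one_mul, len_one, len_gen hσ hx i (hne i)]; omega), one_mul]

theorem lop_dlt_one (t : ℂ) (i : ι) : lop hσ t i (dlt (1 : W)) = dlt (σ i) := by
  rw [lop_dlt_up hσ hx t (by rw [mul_one, len_one, len_gen hσ hx i (hne i)]; omega), mul_one]

theorem rc_commute_iff {t : ℂ} {X : Module.End ℂ (W → ℂ)} (hX : X ∈ RC hσ t) (i : ι) :
    Commute (lop hσ t i) X ↔ lop hσ t i (X (dlt 1)) = rop hσ t i (X (dlt 1)) := by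
  have h1 : X (lop hσ t i (dlt 1)) = rop hσ t i (X (dlt 1)) := by
    rw [lop_dlt_one hσ hx hne, ← rop_dlt_one hσ hx hne t i]
    exact (LinearMap.congr_fun ((mem_RC hσ hx).1 hX i) (dlt 1)).symm
  constructor
  · intro h
    exact (LinearMap.congr_fun h (dlt 1)).trans h1
  · intro h
    exact rc_ext hσ hx (mul_mem (lop_mem hσ hx t i) hX) (mul_mem hX (lop_mem hσ hx t i)) (h.trans h1.symm)

theorem mem_ker_kmap {t : ℂ} {a : W → ℂ} :
    a ∈ LinearMap.ker (kmap hσ t) ↔ ∀ i, Commute (lop hσ t i) (lam hσ t a) := by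
  simp only [rc_commute_iff hσ hx hne (lam_mem hσ hx t a), lam_dlt hσ hx, LinearMap.mem_ker, kmap]
  constructor
  · intro h i
    have := congrFun h i
    simpa [LinearMap.pi_apply, sub_eq_zero] using this
  · intro h
    funext i
    simpa [LinearMap.pi_apply, sub_eq_zero] using h i

theorem casimir_comm {t : ℂ} (ht : t ≠ 0) (X : Module.End ℂ (W → ℂ)) (i : ι) :
    lop hσ t i * casimir hσ t X = casimir hσ t X * lop hσ t i := by
  set f : W → Module.End ℂ (W → ℂ) := fun w =>
    ((t ^ len hσ w)⁻¹) • (lop hσ t i * (tW hσ t w * X * tW hσ t w⁻¹) - (tW hσ t w * X * tW hσ t w⁻¹) * lop hσ t i)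
    with hf
  have hsum : lop hσ t i * casimir hσ t X - casimir hσ t X * lop hσ t i = ∑ w, f w := by
    simp only [casimir, Finset.mul_sum, Finset.sum_mul, mul_smul_comm, smul_mul_assoc, hf, smul_sub,
      Finset.sum_sub_distrib]
  have hperm : ∑ w, f (σ i * w) = ∑ w, f w :=
    Fintype.sum_equiv (Equiv.mulLeft (σ i)) _ _ fun _ => rfl
  have hpair : ∀ w, len hσ w < len hσ (σ i * w) → f w + f (σ i * w) = 0 := by
    intro w hw
    have e0 : σ i * (σ i * w) = w := mul_mul hσ i w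
    have e1 : (σ i * w)⁻¹ = w⁻¹ * σ i := by rw [_root_.mul_inv_rev, inv_eq hσ]
    have hl : len hσ (σ i * w) = len hσ w + 1 := by
      have := len_gen_mul_le hσ i w; omega
    have hw' : len hσ w⁻¹ < len hσ (w⁻¹ * σ i) := by rw [← e1, len_inv, len_inv]; exact hw
    have e2 : w⁻¹ * σ i * σ i = w⁻¹ := by rw [mul_assoc, hσ.mul_self, mul_one]
    have r1 : lop hσ t i * (tW hσ t w * X * tW hσ t w⁻¹) = tW hσ t (σ i * w) * X * tW hσ t w⁻¹ := by
      rw [← mul_assoc, ← mul_assoc, lop_tW_up hσ hx t hw]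
    have r2 : tW hσ t w * X * tW hσ t w⁻¹ * lop hσ t i = tW hσ t w * X * tW hσ t (w⁻¹ * σ i) := by
      rw [mul_assoc, tW_mul_lop_up hσ hx t hw']
    have r3 : lop hσ t i * (tW hσ t (σ i * w) * X * tW hσ t (w⁻¹ * σ i)) =
        (t - 1) • (tW hσ t (σ i * w) * X * tW hσ t (w⁻¹ * σ i)) +
          t • (tW hσ t w * X * tW hσ t (w⁻¹ * σ i)) := by
      rw [← mul_assoc, ← mul_assoc, lop_tW_down hσ hx t (by rwa [e0]), e0]
      simp only [add_mul, smul_mul_assoc]
    have r4 : tW hσ t (σ i * w) * X * tW hσ t (w⁻¹ * σ i) * lop hσ t i =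
        (t - 1) • (tW hσ t (σ i * w) * X * tW hσ t (w⁻¹ * σ i)) +
          t • (tW hσ t (σ i * w) * X * tW hσ t w⁻¹) := by
      rw [mul_assoc, tW_mul_lop_down hσ hx t (hne i) (by rwa [e2]), e2]
      simp only [mul_add, mul_smul_comm]
    simp only [hf, e1, hl, r1, r2, r3, r4]
    have hp : t ^ len hσ w ≠ 0 := pow_ne_zero _ ht
    match_scalars <;> field_simp <;> ring
  have hall : ∀ w, f w + f (σ i * w) = 0 := by
    intro w
    rcases left_parity hσ hx i w with h | h
    · exact hpair w (by omega)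
    · have := hpair (σ i * w) (by rw [mul_mul hσ]; omega)
      rwa [mul_mul hσ, add_comm] at this
  have h2 : (2 : ℂ) • ∑ w, f w = 0 := by
    rw [two_smul]
    nth_rewrite 2 [← hperm]
    rw [← Finset.sum_add_distrib]
    exact Finset.sum_eq_zero fun w _ => hall w
  rw [← sub_eq_zero, hsum]
  exact (smul_eq_zero.1 h2).resolve_left two_ne_zero

theorem pairing_lop (t : ℝ) (i : ι) (a b : W → ℂ) :
    pairing hσ t (lop hσ (t : ℂ) i a) b = pairing hσ t a (lop hσ (t : ℂ) i b) := by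
  rw [pairing, pairing, ← sub_eq_zero, ← Finset.sum_sub_distrib]
  set f : W → ℂ := fun v => (t : ℂ) ^ len hσ v * (conj (lop hσ (t : ℂ) i a v) * b v) -
    (t : ℂ) ^ len hσ v * (conj (a v) * lop hσ (t : ℂ) i b v) with hf
  have hpair : ∀ v, len hσ v < len hσ (σ i * v) → f v + f (σ i * v) = 0 := by
    intro v hv
    have hl : len hσ (σ i * v) = len hσ v + 1 := by have := len_gen_mul_le hσ i v; omega
    simp only [hf, lop_apply, mul_mul hσ, if_pos hv, if_neg (not_lt.2 hv.le)]
    simp only [map_add, map_mul, map_sub, map_one, Complex.conj_ofReal, hl, pow_succ]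
    ring
  have hall : ∀ v, f v + f (σ i * v) = 0 := by
    intro v
    rcases left_parity hσ hx i v with h | h
    · exact hpair v (by omega)
    · have := hpair (σ i * v) (by rw [mul_mul hσ]; omega)
      rwa [mul_mul hσ, add_comm] at this
  have h2 : (2 : ℂ) * ∑ v, f v = 0 := by
    rw [two_mul]
    nth_rewrite 2 [← Fintype.sum_equiv (Equiv.mulLeft (σ i)) (fun v => f (σ i * v)) f fun _ => rfl]
    rw [← Finset.sum_add_distrib]
    exact Finset.sum_eq_zero fun w _ => hall w
  exact (mul_eq_zero.1 h2).resolve_left two_ne_zero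

theorem pairing_wordOp (t : ℝ) (l : List ι) (a b : W → ℂ) :
    pairing hσ t (wordOp hσ (t : ℂ) l a) b = pairing hσ t a (wordOp hσ (t : ℂ) l.reverse b) := by
  induction l generalizing b with
  | nil => rfl
  | cons i l ih =>
    show pairing hσ t (lop hσ (t : ℂ) i (wordOp hσ (t : ℂ) l a)) b = _
    rw [pairing_lop hσ hx hne, ih]
    simp [wordOp, List.map_append, List.prod_append]

theorem pairing_tW (t : ℝ) (w : W) (a b : W → ℂ) :
    pairing hσ t (tW hσ (t : ℂ) w a) b = pairing hσ t a (tW hσ (t : ℂ) w⁻¹ b) := by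
  obtain ⟨l, hl, rfl⟩ := exists_reduced hσ w
  have hr : Reduced hσ l.reverse := by
    show len hσ _ = _
    rw [prod_reverse hσ, len_inv, List.length_reverse]
    exact hl
  rw [← prod_reverse hσ, tW_eq_wordOp hσ hx _ hl, tW_eq_wordOp hσ hx _ hr, pairing_wordOp hσ hx hne]

theorem casimir_one_injective {t : ℝ} (ht : 0 < t) : Function.Injective (casimir hσ (t : ℂ) 1) := by
  rw [← LinearMap.ker_eq_bot, eq_bot_iff]
  intro a ha
  rw [LinearMap.mem_ker] at ha
  have h0 : pairing hσ t a (casimir hσ (t : ℂ) 1 a) = 0 := by rw [ha]; simp [pairing]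
  have h1 : pairing hσ t a (casimir hσ (t : ℂ) 1 a) =
      ((∑ w, (t ^ len hσ w)⁻¹ * nrmSq hσ t (tW hσ (t : ℂ) w⁻¹ a) : ℝ) : ℂ) := by
    push_cast
    have e : casimir hσ (t : ℂ) 1 a =
        ∑ w, (((t : ℂ) ^ len hσ w)⁻¹) • tW hσ (t : ℂ) w (tW hσ (t : ℂ) w⁻¹ a) := by
      simp [casimir]
    rw [e]
    have hlin : pairing hσ t a (∑ w, (((t : ℂ) ^ len hσ w)⁻¹) • tW hσ (t : ℂ) w (tW hσ (t : ℂ) w⁻¹ a)) =
        ∑ w, (((t : ℂ) ^ len hσ w)⁻¹) * pairing hσ t a (tW hσ (t : ℂ) w (tW hσ (t : ℂ) w⁻¹ a)) := by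
      simp only [pairing, Finset.sum_apply, Pi.smul_apply, smul_eq_mul, Finset.mul_sum]
      rw [Finset.sum_comm]
      exact Finset.sum_congr rfl fun w _ => Finset.sum_congr rfl fun v _ => by ring
    rw [hlin]
    refine Finset.sum_congr rfl fun w _ => ?_
    rw [← pairing_self hσ]
    congr 1
    have := pairing_tW hσ hx hne t w⁻¹ a (tW hσ (t : ℂ) w⁻¹ a)
    rw [inv_inv] at this
    exact this.symm
  rw [h0, eq_comm, Complex.ofReal_eq_zero] at h1
  have hnn : ∀ b, 0 ≤ nrmSq hσ t b := fun b =>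
    Finset.sum_nonneg fun w _ => mul_nonneg (pow_nonneg ht.le _) (Complex.normSq_nonneg _)
  have h2 := (Finset.sum_eq_zero_iff_of_nonneg fun w _ =>
    mul_nonneg (inv_nonneg.2 (pow_nonneg ht.le _)) (hnn _)).1 h1 1 (Finset.mem_univ _)
  rw [len_one, pow_zero, inv_one, one_mul, inv_one, tW_one hσ hx, Module.End.one_apply] at h2
  show a = 0
  funext w
  have h3 := (Finset.sum_eq_zero_iff_of_nonneg fun w _ =>
    mul_nonneg (pow_nonneg ht.le _) (Complex.normSq_nonneg _)).1 h2 w (Finset.mem_univ _)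
  exact Complex.normSq_eq_zero.1 ((mul_eq_zero.1 h3).resolve_left (pow_pos ht _).ne')

/-- For positive parameter the centre is the image of the Casimir map. -/
theorem range_gmap {t : ℝ} (ht : 0 < t) :
    LinearMap.range (gmap hσ (t : ℂ)) = LinearMap.ker (kmap hσ (t : ℂ)) := by
  have htc : (t : ℂ) ≠ 0 := by exact_mod_cast ht.ne'
  apply le_antisymm
  · rintro _ ⟨a, rfl⟩
    rw [mem_ker_kmap hσ hx hne]
    intro i
    have e : lam hσ (t : ℂ) (gmap hσ (t : ℂ) a) = casimir hσ (t : ℂ) (lam hσ (t : ℂ) a) :=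
      rc_ext hσ hx (lam_mem hσ hx _ _) (casimir_mem hσ hx _ (lam_mem hσ hx _ _)) (lam_dlt hσ hx _ _)
    rw [e]
    exact casimir_comm hσ hx hne htc _ i
  · intro a ha
    rw [mem_ker_kmap hσ hx hne] at ha
    set z := lam hσ (t : ℂ) a with hz
    set c := casimir hσ (t : ℂ) 1 with hc
    have hunit : IsUnit c := by
      rw [LinearMap.isUnit_iff_ker_eq_bot, LinearMap.ker_eq_bot]
      exact casimir_one_injective hσ hx hne ht
    obtain ⟨u, hu⟩ := hunit
    set e : Module.End ℂ (W → ℂ) := ↑u⁻¹ with he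
    have heR : e ∈ RC hσ (t : ℂ) := (mem_RC hσ hx).2 fun j =>
      Commute.units_inv_right (by rw [hu]; exact (mem_RC hσ hx).1 (casimir_mem hσ hx _ (one_mem _)) j)
    have heL : ∀ i, Commute (lop hσ (t : ℂ) i) e := fun i =>
      Commute.units_inv_right (by rw [hu]; exact casimir_comm hσ hx hne htc 1 i)
    have hzT : ∀ w, Commute (tW hσ (t : ℂ) w) (z * e) := fun w =>
      Commute.list_prod_left _ _ fun x hx' => by
        obtain ⟨i, -, rfl⟩ := List.mem_map.1 hx'
        exact (ha i).mul_right (heL i)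
    have hC : casimir hσ (t : ℂ) (z * e) = z := by
      have h1 : casimir hσ (t : ℂ) (z * e) = z * e * c := by
        simp only [hc, casimir, Finset.mul_sum, mul_smul_comm, mul_one]
        refine Finset.sum_congr rfl fun w _ => ?_
        rw [(hzT w).eq, mul_assoc]
      rw [h1, mul_assoc, he, ← hu, Units.inv_mul, mul_one]
    refine ⟨(z * e) (dlt 1), ?_⟩
    show casimir hσ (t : ℂ) (lam hσ (t : ℂ) ((z * e) (dlt 1))) (dlt 1) = a
    rw [rc_ext hσ hx (lam_mem hσ hx _ _) (mul_mem (lam_mem hσ hx _ _) heR) (lam_dlt hσ hx _ _), hC, hz,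
      lam_dlt hσ hx]

end CfsgLib.BNPair.Hecke
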